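import Cfsg.Agent.TwoRegular.Struct
import Mathlib.GroupTheory.SchurZassenhaus

/-!
The two conclusions.
-/

set_option autoImplicit false

namespace CfsgLib.TwoRegular

variable {G : Type*} [Group G] [Finite G] {p m : ℕ}

theorem Hyp.exists_abelian_compl (h : Hyp p m G) (hp : p.Prime) :
    ∃ H : Subgroup G, IsMulCommutative H ∧ ¬ p ∣ Nat.card H ∧ ∃ k : ℕ, H.index = p ^ k := by
  obtain ⟨x, hx⟩ := h.exists_reg
  let H : Subgroup G :=
    { carrier := {a | a ∈ Subgroup.centralizer ({x} : Set G) ∧ (orderOf a).Coprime p}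
      one_mem' := ⟨one_mem _, by simp⟩
      mul_mem' := fun {a b} ha hb => ⟨mul_mem ha.1 hb.1, Nat.Coprime.coprime_dvd_left
        (h.commute_of_mem hx ha.1 hb.1 ha.2).orderOf_mul_dvd_mul_orderOf (ha.2.mul_left hb.2)⟩
      inv_mem' := fun {a} ha => ⟨inv_mem ha.1, by rw [orderOf_inv]; exact ha.2⟩ }
  refine ⟨H, ⟨⟨fun a b => Subtype.ext (h.commute_of_mem hx a.2.1 b.2.1 a.2.2).eq⟩⟩,
    fun hd => ?_, ⟨H.index.primeFactorsList.length,
      Nat.eq_prime_pow_of_unique_prime_dvd Subgroup.index_ne_zero_of_finite fun {t} ht htd => ?_⟩⟩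
  · haveI : Fact p.Prime := ⟨hp⟩
    obtain ⟨a, ha⟩ := exists_prime_orderOf_dvd_card' p hd
    have h1 := a.2.2
    rw [Subgroup.orderOf_coe, ha] at h1
    exact (hp.coprime_iff_not_dvd.1 h1) dvd_rfl
  · by_contra htp
    haveI : Fact t.Prime := ⟨ht⟩
    obtain ⟨P, hPC, hP, hPc⟩ := exists_sylow_card (r := t) (Subgroup.centralizer ({x} : Set G))
    have hPH : P ≤ H := fun a ha => ⟨hPC ha, reg_of_isEl hp ht htp (IsEl.of_mem_pGroup hP ha)⟩
    have h1 := card_le_of_pGroup hP (le_refl P)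
    have h2 := htd.trans (Subgroup.index_dvd_of_le hPH)
    have h3 := P.card_mul_index
    have h4 := (Subgroup.centralizer ({x} : Set G)).card_mul_index
    rw [h.size x hx] at h4
    have hm0 : m ≠ 0 := h.size x hx ▸ Subgroup.index_ne_zero_of_finite
    have h5 : (Nat.card G).factorization t =
        (Nat.card (Subgroup.centralizer ({x} : Set G))).factorization t := by
      rw [← h4, Nat.factorization_mul Nat.card_pos.ne' hm0, Finsupp.add_apply,
        Nat.factorization_eq_zero_of_not_dvd (h.not_dvd hp ht htp), add_zero]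
    refine Nat.pow_succ_factorization_not_dvd (Nat.card_pos (α := G)).ne' ht ?_
    rw [pow_succ, h5, ← hPc, ← h3]
    exact mul_dvd_mul_left _ h2

/-- All non-central `p`-regular prime power elements are `q`-elements. -/
theorem exists_direct {q : ℕ} [Fact q.Prime] (hp : p.Prime) (hqp : q ≠ p)
    (hcen : ∀ t : ℕ, t.Prime → t ≠ p → t ≠ q → ∀ a : G, IsEl t a → a ∈ Subgroup.center G) :
    ∃ (P : Sylow p G) (Q : Sylow q G) (A : Subgroup G),
        A ≤ Subgroup.center G ∧
        Nat.card ↥((P : Subgroup G) ⊔ (Q : Subgroup G)) = Nat.card P * Nat.card Q ∧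
        ((P : Subgroup G) ⊔ (Q : Subgroup G)).Normal ∧
        ((P : Subgroup G) ⊔ (Q : Subgroup G)) ⊓ A = ⊥ ∧
        ((P : Subgroup G) ⊔ (Q : Subgroup G)) ⊔ A = ⊤ := by
  haveI : Fact p.Prime := ⟨hp⟩
  have hq : q.Prime := Fact.out
  have hpq : p.Coprime q := (Nat.coprime_primes hp hq).2 (Ne.symm hqp)
  obtain ⟨P⟩ : Nonempty (Sylow p G) := inferInstance
  obtain ⟨Q⟩ : Nonempty (Sylow q G) := inferInstance
  let A : Subgroup G :=
    { carrier := {a | a ∈ Subgroup.center G ∧ (orderOf a).Coprime (p * q)}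
      one_mem' := ⟨one_mem _, by simp⟩
      mul_mem' := fun {a b} ha hb => by
        have hab : Commute a b := Subgroup.mem_center_iff.1 hb.1 a
        exact ⟨mul_mem ha.1 hb.1, Nat.Coprime.coprime_dvd_left hab.orderOf_mul_dvd_mul_orderOf
          (ha.2.mul_left hb.2)⟩
      inv_mem' := fun {a} ha => ⟨inv_mem ha.1, by rw [orderOf_inv]; exact ha.2⟩ }
  haveI hAn : A.Normal := ⟨fun a ha g => by
    rwa [(Subgroup.mem_center_iff.1 ha.1 g : g * a = a * g), mul_inv_cancel_right]⟩
  have hAt : ∀ t : ℕ, t.Prime → t ∣ Nat.card A → t ≠ p ∧ t ≠ q := by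
    intro t ht htd
    haveI : Fact t.Prime := ⟨ht⟩
    obtain ⟨a, ha⟩ := exists_prime_orderOf_dvd_card' t htd
    have h1 := a.2.2
    rw [Subgroup.orderOf_coe, ha, Nat.coprime_mul_iff_right] at h1
    exact ⟨(Nat.coprime_primes ht hp).1 h1.1, (Nat.coprime_primes ht hq).1 h1.2⟩
  have hAi : ∀ t : ℕ, t.Prime → t ∣ A.index → t = p ∨ t = q := by
    intro t ht htd
    by_contra hcon
    push Not at hcon
    haveI : Fact t.Prime := ⟨ht⟩
    obtain ⟨T⟩ : Nonempty (Sylow t G) := inferInstance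
    refine T.not_dvd_index (htd.trans (Subgroup.index_dvd_of_le fun a ha => ?_))
    have hel := IsEl.of_mem_pGroup T.isPGroup' ha
    exact ⟨hcen t ht hcon.1 hcon.2 a hel, Nat.coprime_mul_iff_right.2
      ⟨reg_of_isEl hp ht hcon.1 hel, reg_of_isEl hq ht hcon.2 hel⟩⟩
  have hcop : (Nat.card A).Coprime A.index := Nat.coprime_of_dvd fun t ht h1 h2 => by
    rcases hAi t ht h2 with e | e
    · exact (hAt t ht h1).1 e
    · exact (hAt t ht h1).2 e
  obtain ⟨K, hK⟩ := Subgroup.exists_left_complement'_of_coprime hcop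
  have hKcard : Nat.card K = A.index := hK.index_eq_card.symm
  haveI hKn : K.Normal := by
    refine Subgroup.normalizer_eq_top_iff.1 (top_le_iff.1 ?_)
    rw [← hK.sup_eq_top]
    refine sup_le Subgroup.le_normalizer fun a ha => Subgroup.mem_normalizer_iff.2 fun b => ?_
    rw [← (Subgroup.mem_center_iff.1 (ha : a ∈ Subgroup.center G ∧ _).1 b : b * a = a * b),
      mul_inv_cancel_right]
  have hle : ∀ {t : ℕ} [Fact t.Prime] (T : Sylow t G), (t = p ∨ t = q) → (T : Subgroup G) ≤ K := by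
    intro t _ T ht a ha
    obtain ⟨k, hk⟩ := IsEl.of_mem_pGroup T.isPGroup' ha
    have hKA : K.index = Nat.card A := hK.symm.index_eq_card
    have hco : (orderOf a).Coprime K.index := by
      rw [hKA]
      refine Nat.Coprime.coprime_dvd_left (orderOf_dvd_of_pow_eq_one hk) (Nat.Coprime.pow_left k ?_)
      refine (Fact.out : t.Prime).coprime_iff_not_dvd.2 fun hd => ?_
      have := hAt t Fact.out hd
      tauto
    refine (QuotientGroup.eq_one_iff a).1 (orderOf_eq_one_iff.1 ?_)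
    exact Nat.eq_one_of_dvd_coprimes hco
      (orderOf_map_dvd (QuotientGroup.mk' K) a) (orderOf_dvd_natCard (a : G ⧸ K))
  have hPK := hle P (Or.inl rfl)
  have hQK := hle Q (Or.inr rfl)
  have hPQ : (Nat.card P).Coprime (Nat.card Q) :=
    IsPGroup.coprime_card_of_ne p q (Ne.symm hqp) _ _ P.isPGroup' Q.isPGroup'
  have h1 : Nat.card P * Nat.card Q ∣ Nat.card ↥((P : Subgroup G) ⊔ (Q : Subgroup G)) :=
    hPQ.mul_dvd_of_dvd_of_dvd (Subgroup.card_dvd_of_le le_sup_left)
      (Subgroup.card_dvd_of_le le_sup_right)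
  have h2 : Nat.card K ∣ Nat.card P * Nat.card Q := by
    rw [Nat.dvd_iff_prime_pow_dvd_dvd]
    intro t k ht htk
    rcases Nat.eq_zero_or_pos k with rfl | hk
    · simp
    have htG : t ^ k ∣ Nat.card G := htk.trans K.card_subgroup_dvd_card
    have hle' := (ht.pow_dvd_iff_le_factorization Nat.card_pos.ne').1 htG
    rcases hAi t ht (hKcard ▸ (dvd_pow_self t hk.ne').trans htk) with e | e
    · subst e
      exact Dvd.dvd.mul_right (by rw [P.card_eq_multiplicity]; exact pow_dvd_pow _ hle') _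
    · subst e
      exact Dvd.dvd.mul_left (by rw [Q.card_eq_multiplicity]; exact pow_dvd_pow _ hle') _
  have heq : (P : Subgroup G) ⊔ (Q : Subgroup G) = K :=
    Subgroup.eq_of_le_of_card_ge (sup_le hPK hQK) (Nat.le_of_dvd Nat.card_pos (h2.trans h1))
  refine ⟨P, Q, A, fun a ha => ha.1, Nat.dvd_antisymm ?_ h1, heq ▸ hKn, ?_, ?_⟩
  · rw [heq]; exact h2
  · rw [heq]; exact hK.disjoint.eq_bot
  · rw [heq]; exact hK.sup_eq_top

end CfsgLib.TwoRegular
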