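import Cfsg.Agent.TwoRegular.Basic
import Cfsg.Agent.PGroup.Commutator
import Mathlib.GroupTheory.Nilpotent

/-!
If a prime `r ≠ p` divides the class size then a Sylow `r`-subgroup contains the `r`-part of each
centralizer with index exactly `r`.
-/

set_option autoImplicit false

open scoped commutatorElement

namespace CfsgLib.TwoRegular

variable {G : Type*} [Group G]

theorem comm_mem_center_symm {a b : G} (h : ⁅a, b⁆ ∈ Subgroup.center G) :
    ⁅b, a⁆ ∈ Subgroup.center G := by
  rw [← commutatorElement_inv]; exact inv_mem h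

theorem commute_comm {a b : G} (h : ⁅a, b⁆ ∈ Subgroup.center G) (c : G) : Commute ⁅a, b⁆ c :=
  (Subgroup.mem_center_iff.1 h c).symm

/-- An `r`-element fixing a `q`-element modulo the centre fixes it. -/
theorem commute_of_comm_mem_center {r q : ℕ} {g a : G} (hg : IsEl r g) (ha : IsEl q a)
    (hrq : r.Coprime q) (hz : ⁅g, a⁆ ∈ Subgroup.center G) : Commute g a := by
  obtain ⟨i, hi⟩ := hg
  obtain ⟨j, hj⟩ := ha
  have h1 : ⁅g, a⁆ ^ r ^ i = 1 := by
    rw [← CfsgLib.PGroup.commutatorElement_pow_left (commute_comm hz g), hi,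
      commutatorElement_one_left]
  have h2 : ⁅g, a⁆ ^ q ^ j = 1 := by
    rw [← CfsgLib.PGroup.commutatorElement_pow_right (commute_comm hz a), hj,
      commutatorElement_one_right]
  refine commutatorElement_eq_one_iff_mul_comm.1 (orderOf_eq_one_iff.1 ?_)
  exact Nat.dvd_one.1 ((hrq.pow i j) ▸ Nat.dvd_gcd (orderOf_dvd_of_pow_eq_one h1)
    (orderOf_dvd_of_pow_eq_one h2))

theorem centralizer_conj_eq {g x : G} (hz : ⁅g, x⁆ ∈ Subgroup.center G) :
    Subgroup.centralizer ({g * x * g⁻¹} : Set G) = Subgroup.centralizer {x} := by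
  have : g * x * g⁻¹ = x * ⁅g, x⁆ := by
    rw [← (commute_comm hz x).eq]; simp only [commutatorElement_def]; group
  rw [this, centralizer_mul_central hz]

variable [Finite G] {p m : ℕ}

theorem IsEl.coprime_of_reg {q : ℕ} (hq : q.Prime) {y : G} (hy : Reg p y) (hyq : IsEl q y) :
    q.Coprime p := by
  obtain ⟨k, hk⟩ := hyq
  obtain ⟨j, -, hj⟩ := (Nat.dvd_prime_pow hq).1 (orderOf_dvd_of_pow_eq_one hk)
  have h := hy.1
  rw [hj] at h
  rcases Nat.eq_zero_or_pos j with rfl | hj0
  · exact absurd (orderOf_eq_one_iff.1 (by simpa using hj)) fun e => hy.2 (by rw [e]; exact one_mem _)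
  · exact (Nat.coprime_pow_left_iff hj0 _ _).1 h

/-- A normal subgroup of a `p`-group not in `L` has an element central modulo `L` outside `L`. -/
theorem exists_central_mod {r : ℕ} [Fact r.Prime] {R T L : Subgroup G} (hR : IsPGroup r R)
    (hTR : T ≤ R) (hT : ∀ g ∈ R, ∀ t ∈ T, g * t * g⁻¹ ∈ T)
    (hL : ∀ g ∈ R, ∀ l ∈ L, g * l * g⁻¹ ∈ L) (hnle : ¬ T ≤ L) :
    ∃ t ∈ T, t ∉ L ∧ ∀ g ∈ R, ⁅g, t⁆ ∈ L := by
  haveI hLn : (L.subgroupOf R).Normal := ⟨fun l hl g => hL g g.2 l hl⟩
  haveI : (T.subgroupOf R).Normal := ⟨fun t ht g => hT g g.2 t ht⟩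
  let π := QuotientGroup.mk' (L.subgroupOf R)
  haveI : ((T.subgroupOf R).map π).Normal :=
    Subgroup.Normal.map inferInstance π (QuotientGroup.mk'_surjective _)
  have hne : (T.subgroupOf R).map π ≠ ⊥ := fun h => hnle fun t ht => by
    have h1 : π ⟨t, hTR ht⟩ ∈ (T.subgroupOf R).map π := ⟨⟨t, hTR ht⟩, ht, rfl⟩
    rw [h, Subgroup.mem_bot] at h1
    exact Subgroup.mem_subgroupOf.1 ((QuotientGroup.eq_one_iff (⟨t, hTR ht⟩ : R)).1 h1)
  obtain ⟨⟨u, hu⟩, hu1⟩ := Subgroup.ne_bot_iff_exists_ne_one.1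
    (CfsgLib.PGroup.inf_center_ne_bot (hR.to_quotient _) _ hne)
  obtain ⟨⟨t, ht, rfl⟩, hucen⟩ := hu
  refine ⟨t, ht, fun htL => hu1 (Subtype.ext ((QuotientGroup.eq_one_iff t).2 htL)), fun g hg => ?_⟩
  have hc := Subgroup.mem_center_iff.1 hucen (π ⟨g, hg⟩)
  have h1 : π ⁅(⟨g, hg⟩ : R), t⁆ = 1 := by
    rw [map_commutatorElement, commutatorElement_eq_one_iff_mul_comm]
    exact hc
  have := Subgroup.mem_subgroupOf.1 ((QuotientGroup.eq_one_iff _).1 h1)
  simpa [commutatorElement_def] using this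

/-- A good element: central in the Sylow group modulo `Z(G)`, of order `r` modulo `Z(G)`. -/
structure Good (p r : ℕ) (R : Subgroup G) (x : G) : Prop where
  mem : x ∈ R
  reg : Reg p x
  el : IsEl r x
  comm : ∀ g ∈ R, ⁅g, x⁆ ∈ Subgroup.center G
  pow : x ^ r ∈ Subgroup.center G

omit [Finite G] in
theorem conj_mem_center {g z : G} (hz : z ∈ Subgroup.center G) : g * z * g⁻¹ ∈ Subgroup.center G :=
  (inferInstance : (Subgroup.center G).Normal).conj_mem z hz g

theorem exists_good {r : ℕ} [Fact r.Prime] (hrp : r.Coprime p) (R : Sylow r G) {T : Subgroup G}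
    (hTR : T ≤ R) (hT : ∀ g ∈ (R : Subgroup G), ∀ t ∈ T, g * t * g⁻¹ ∈ T)
    (hnle : ¬ T ≤ Subgroup.center G) : ∃ x ∈ T, Good p r R x := by
  classical
  obtain ⟨t, ht, htz, hcomm⟩ := exists_central_mod R.isPGroup' hTR hT
    (fun g _ l hl => conj_mem_center hl) hnle
  have htel : IsEl r t := IsEl.of_mem_pGroup R.isPGroup' (hTR ht)
  have hex : ∃ i, t ^ r ^ i ∈ Subgroup.center G := by
    obtain ⟨k, hk⟩ := htel
    exact ⟨k, hk ▸ one_mem _⟩
  have hi := Nat.find_spec hex
  have hi0 : Nat.find hex ≠ 0 := fun h0 => htz (by rw [h0, pow_zero, pow_one] at hi; exact hi)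
  obtain ⟨i, hi'⟩ := Nat.exists_eq_succ_of_ne_zero hi0
  have hnotz : t ^ r ^ i ∉ Subgroup.center G := Nat.find_min hex (by omega)
  refine ⟨t ^ r ^ i, pow_mem ht _, pow_mem (hTR ht) _,
    ⟨(htel.pow _).coprime hrp, hnotz⟩, htel.pow _, fun g hg => ?_, ?_⟩
  · rw [CfsgLib.PGroup.commutatorElement_pow_right (commute_comm (hcomm g hg) t)]
    exact pow_mem (hcomm g hg) _
  · rw [← pow_mul, ← pow_succ, ← Nat.succ_eq_add_one, ← hi']
    exact hi

theorem Hyp.not_le_center (h : Hyp p m G) {r : ℕ} [Fact r.Prime] (hrm : r ∣ m) {x : G}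
    (hx : Reg p x) (R : Sylow r G) : ¬ (R : Subgroup G) ≤ Subgroup.centralizer ({x} : Set G) := by
  intro hle
  have := Subgroup.index_dvd_of_le hle
  rw [h.size x hx] at this
  exact R.not_dvd_index (dvd_trans hrm this)

/-- For good `x` the `r`-part of `C(x)` is `R ∩ C(x)`. -/
theorem Hyp.good_part (h : Hyp p m G) {r : ℕ} [Fact r.Prime] (hrp : r.Coprime p) {R : Sylow r G}
    {x : G} (hx : Good p r R x) :
    part r x = (R : Subgroup G) ⊓ Subgroup.centralizer ({x} : Set G) := by
  have hnor : (R : Subgroup G) ≤ Subgroup.normalizer (part r x : Set G) := by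
    intro g hg
    rw [Subgroup.mem_normalizer_iff]
    refine fun a => ⟨fun ha => conj_mem_part (centralizer_conj_eq (hx.comm g hg)) ha, fun ha => ?_⟩
    have := conj_mem_part (centralizer_conj_eq (hx.comm g⁻¹ (inv_mem hg))) ha
    simpa [mul_assoc] using this
  have hsup : IsPGroup r ((R : Subgroup G) ⊔ part r x : Subgroup G) :=
    R.isPGroup'.to_sup_of_normal_right' (h.part_isPGroup hrp hx.reg) hnor
  have hle : part r x ≤ (R : Subgroup G) := le_sup_right.trans (R.3 hsup le_sup_left).le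
  exact le_antisymm (le_inf hle (part_le r x))
    fun a ha => mem_part_of ha.2 (IsEl.of_mem_pGroup R.isPGroup' ha.1)

/-- An element fixed by something outside `C(x)` is central. -/
theorem Hyp.mem_center_of_fixed (h : Hyp p m G) {q : ℕ} (hqp : q.Coprime p) {x u w : G}
    (hx : Reg p x) (hw : w ∈ part q x) (hu : u ∉ Subgroup.centralizer ({x} : Set G))
    (hc : Commute u w) : w ∈ Subgroup.center G := by
  by_contra hz
  obtain ⟨hwC, hwq⟩ := (h.mem_part hqp hx).1 hw
  rw [← h.eq_of_mem ⟨hwq.coprime hqp, hz⟩ hx hwC] at hu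
  exact hu (Subgroup.mem_centralizer_singleton_iff.2 hc.eq)

/-- **The `r`-part of a centralizer has index `r` in a Sylow subgroup.** -/
theorem Hyp.card_sylow (h : Hyp p m G) {r : ℕ} [Fact r.Prime] (hrp : r.Coprime p) (hrm : r ∣ m)
    {R : Sylow r G} {x : G} (hx : Good p r R x) :
    Nat.card R = r * Nat.card (part r x) := by
  have hr : r.Prime := Fact.out
  let φ : (R : Subgroup G) →* Subgroup.center G :=
    { toFun := fun g => ⟨⁅(g : G), x⁆, hx.comm _ g.2⟩
      map_one' := Subtype.ext (commutatorElement_one_left x)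
      map_mul' := fun a b => Subtype.ext (by
        change ⁅(a : G) * b, x⁆ = ⁅(a : G), x⁆ * ⁅(b : G), x⁆
        calc ⁅(a : G) * b, x⁆ = (a : G) * ⁅(b : G), x⁆ * (a : G)⁻¹ * ⁅(a : G), x⁆ := by
              simp only [commutatorElement_def]; group
          _ = ⁅(b : G), x⁆ * ⁅(a : G), x⁆ := by
              rw [← (commute_comm (hx.comm _ b.2) (a : G)).eq, mul_inv_cancel_right]
          _ = ⁅(a : G), x⁆ * ⁅(b : G), x⁆ := (commute_comm (hx.comm _ b.2) _).eq) }
  have hφ : ∀ g : (R : Subgroup G), φ g = 1 ↔ (g : G) ∈ Subgroup.centralizer ({x} : Set G) :=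
    fun g => by
      rw [Subgroup.mem_centralizer_singleton_iff, ← commutatorElement_eq_one_iff_mul_comm]
      exact ⟨fun e => congrArg Subtype.val e, fun e => Subtype.ext e⟩
  have hker : φ.ker = (part r x).subgroupOf R := by
    ext g
    rw [MonoidHom.mem_ker, hφ, Subgroup.mem_subgroupOf, h.good_part hrp hx]
    exact ⟨fun e => ⟨g.2, e⟩, fun e => e.2⟩
  have hpart : part r x ≤ (R : Subgroup G) := (h.good_part hrp hx).le.trans inf_le_left
  have hcard : Nat.card R = Nat.card φ.range * Nat.card (part r x) := by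
    rw [← Subgroup.index_ker, hker,
      ← Nat.card_congr (Subgroup.subgroupOfEquivOfLe hpart).toEquiv, mul_comm]
    exact (Subgroup.card_mul_index _).symm
  have hexp : ∀ z ∈ φ.range, z ^ r = 1 := by
    rintro _ ⟨g, rfl⟩
    apply Subtype.ext
    change ⁅(g : G), x⁆ ^ r = 1
    rw [← CfsgLib.PGroup.commutatorElement_pow_right (commute_comm (hx.comm _ g.2) x),
      commutatorElement_eq_one_iff_mul_comm]
    exact Subgroup.mem_center_iff.1 hx.pow (g : G)
  obtain ⟨g₁, hg₁⟩ : ∃ g₁ : (R : Subgroup G), φ g₁ ≠ 1 := by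
    by_contra hall
    push Not at hall
    exact h.not_le_center hrm hx.reg R fun g hg => (hφ ⟨g, hg⟩).1 (hall ⟨g, hg⟩)
  suffices hcyc : φ.range ≤ Subgroup.zpowers (φ g₁) by
    have hord : orderOf (φ g₁) = r :=
      orderOf_eq_prime (hexp _ ⟨g₁, rfl⟩) hg₁
    have h2 : φ.range = Subgroup.zpowers (φ g₁) :=
      le_antisymm hcyc (Subgroup.zpowers_le.2 ⟨g₁, rfl⟩)
    rw [hcard, h2, Nat.card_zpowers, hord]
  rintro _ ⟨g, rfl⟩
  by_contra hg
  -- a `q`-element with the centralizer of `x`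
  obtain ⟨q, hq, hqr, y, hy, hyq, hyx⟩ := h.exists_other hr hx.reg hx.el
  have hqp : q.Coprime p := IsEl.coprime_of_reg hq hy hyq
  have hyA : y ∈ part q x :=
    mem_part_of (hyx ▸ Subgroup.mem_centralizer_singleton_iff.2 rfl) hyq
  set A := part q x with hA
  letI : CommGroup A :=
    { (inferInstance : Group A) with
      mul_comm := fun a b => Subtype.ext (h.part_comm hqp hx.reg a.2 b.2).eq }
  have hnor : ∀ u : (R : Subgroup G), ∀ a ∈ A, (u : G) * a * (u : G)⁻¹ ∈ A := fun u a ha =>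
    conj_mem_part (centralizer_conj_eq (hx.comm _ u.2)) ha
  -- the conjugation action
  let θf : ↥(R : Subgroup G) → MulAut A := fun (u : ↥(R : Subgroup G)) =>
    { toFun := fun a => ⟨(u : G) * a * (u : G)⁻¹, hnor u a a.2⟩
      invFun := fun a => ⟨(u : G)⁻¹ * a * (u : G)⁻¹⁻¹, hnor u⁻¹ a a.2⟩
      left_inv := fun a => Subtype.ext (by simp [mul_assoc])
      right_inv := fun a => Subtype.ext (by simp [mul_assoc])
      map_mul' := fun a b => Subtype.ext (by simp [mul_assoc]) }
  let θ : (R : Subgroup G) →* MulAut A :=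
    { toFun := θf
      map_one' := MulEquiv.ext fun a => Subtype.ext (by simp [θf])
      map_mul' := fun u v => MulEquiv.ext fun a => Subtype.ext (by simp [θf, mul_assoc]) }
  have hθ1 : ∀ u : (R : Subgroup G), φ u = 1 → θ u = 1 := by
    intro u hu
    refine MulEquiv.ext fun a => Subtype.ext ?_
    change (u : G) * a * (u : G)⁻¹ = a
    have hc : Commute (a : G) u := h.commute_of_mem hx.reg (part_le q x a.2) ((hφ u).1 hu)
      ((((h.mem_part hqp hx.reg).1 a.2).2).coprime hqp)
    rw [hc.symm.eq, mul_inv_cancel_right]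
  have hθc : ∀ u v : (R : Subgroup G), Commute (θ u) (θ v) := fun u v => by
    have h1 : θ ⁅u, v⁆ = 1 := hθ1 _ (by
      rw [map_commutatorElement, commutatorElement_eq_one_iff_mul_comm]; exact Subtype.ext (Subgroup.mem_center_iff.1 (φ v).2 (φ u : G)))
    rw [map_commutatorElement, commutatorElement_eq_one_iff_mul_comm] at h1
    exact h1
  -- norms of elements outside `C(x)` are central
  have hnorm : ∀ u : (R : Subgroup G), φ u ≠ 1 → ∀ a : A,
      ((∏ i ∈ Finset.range r, (θ u ^ i) a : A) : G) ∈ Subgroup.center G := by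
    intro u hu a
    set w := ∏ i ∈ Finset.range r, (θ u ^ i) a
    have hr1 : θ u ^ r = 1 := by rw [← map_pow]; exact hθ1 _ (by rw [map_pow]; exact hexp _ ⟨u, rfl⟩)
    have hfix : θ u w = w := by
      rw [map_prod]
      have h1 := Finset.prod_range_succ (fun i => (θ u ^ i) a) r
      have h2 := Finset.prod_range_succ' (fun i => (θ u ^ i) a) r
      rw [h1, hr1] at h2
      simp only [MulAut.one_apply, pow_zero] at h2
      refine Eq.trans (Finset.prod_congr rfl fun i _ => ?_) (mul_right_cancel h2).symm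
      rw [pow_succ', MulAut.mul_apply]
    refine h.mem_center_of_fixed hqp hx.reg w.2 (fun hC => hu ((hφ u).2 hC)) ?_
    have := congrArg Subtype.val hfix
    change (u : G) * w * (u : G)⁻¹ = w at this
    exact mul_inv_eq_iff_eq_mul.1 this
  have hmem : ((⟨y, hyA⟩ : A) ^ r : A) ∈ (Subgroup.center G).subgroupOf A := by
    set a : A := ⟨y, hyA⟩
    let f : ℕ → ℕ → A := fun i j => (θ g ^ j) ((θ g₁ ^ (i * j)) a)
    have hline : ∀ i ∈ Finset.range r, (∏ j ∈ Finset.range r, f i j) ∈ (Subgroup.center G).subgroupOf A := by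
      intro i _
      have hu : φ (g * g₁ ^ i) ≠ 1 := fun e => hg (by
        rw [map_mul, map_pow, mul_eq_one_iff_eq_inv] at e
        rw [e]
        exact inv_mem (Subgroup.npow_mem_zpowers _ _))
      have := hnorm _ hu a
      have e : ∏ j ∈ Finset.range r, f i j = ∏ j ∈ Finset.range r, (θ (g * g₁ ^ i) ^ j) a := by
        refine Finset.prod_congr rfl fun j _ => ?_
        rw [map_mul, map_pow, ((hθc g g₁).pow_right i).mul_pow, ← pow_mul, MulAut.mul_apply]
      rw [Subgroup.mem_subgroupOf, e]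
      exact this
    have htot : (∏ j ∈ Finset.range r, ∏ i ∈ Finset.range r, f i j) ∈ (Subgroup.center G).subgroupOf A := by
      rw [Finset.prod_comm]
      exact Subgroup.prod_mem _ hline
    rw [← Finset.mul_prod_erase _ _ (Finset.mem_range.2 hr.pos : 0 ∈ Finset.range r)] at htot
    have hrest : (∏ j ∈ (Finset.range r).erase 0, ∏ i ∈ Finset.range r, f i j) ∈
        (Subgroup.center G).subgroupOf A := by
      refine Subgroup.prod_mem _ fun j hj => ?_
      obtain ⟨hj0, hjr⟩ := Finset.mem_erase.1 hj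
      rw [Finset.mem_range] at hjr
      have hu : φ (g₁ ^ j) ≠ 1 := by
        rw [map_pow]
        intro e
        have := orderOf_dvd_of_pow_eq_one e
        rw [orderOf_eq_prime (hexp _ ⟨g₁, rfl⟩) hg₁] at this
        exact absurd (Nat.le_of_dvd (Nat.pos_of_ne_zero hj0) this) (by omega)
      have := hnorm _ hu ((θ g ^ j) a)
      have e : ∏ i ∈ Finset.range r, f i j =
          ∏ i ∈ Finset.range r, (θ (g₁ ^ j) ^ i) ((θ g ^ j) a) := by
        refine Finset.prod_congr rfl fun i _ => ?_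
        change (θ g ^ j) ((θ g₁ ^ (i * j)) a) = _
        rw [map_pow, ← pow_mul, mul_comm j i, ← MulAut.mul_apply, ← MulAut.mul_apply,
          ((hθc g g₁).pow_pow j (i * j)).eq]
      rw [Subgroup.mem_subgroupOf, e]
      exact this
    have hzero : ∏ i ∈ Finset.range r, f i 0 = a ^ r := by simp [f]
    rw [hzero] at htot
    exact (Subgroup.mul_mem_cancel_right _ hrest).1 htot
  rw [Subgroup.mem_subgroupOf, Subgroup.coe_pow] at hmem
  obtain ⟨k, hk⟩ := hyq
  obtain ⟨n, hn⟩ := exists_pow_eq_self_of_coprime (x := y) (n := r)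
    (Nat.Coprime.coprime_dvd_right (orderOf_dvd_of_pow_eq_one hk)
      (((Nat.coprime_primes hr hq).2 (Ne.symm hqr)).pow_right k))
  exact hy.2 (hn ▸ pow_mem hmem n)

end CfsgLib.TwoRegular
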