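import Cfsg.Agent.MaxCentralizers.Members
import Cfsg.Agent.PGroup.Normal

/-!
Groups in which all non-central `p`-regular elements have classes of one size `m`, with non-central
`p`-regular elements of two different primes: commuting such elements have the same centralizer,
so the `p`-regular elements of each centralizer form an abelian subgroup.
-/

set_option autoImplicit false

namespace CfsgLib.TwoRegular

variable {G : Type*} [Group G]

/-- `x` is a non-central `p`-regular element. -/
def Reg (p : ℕ) (x : G) : Prop := (orderOf x).Coprime p ∧ x ∉ Subgroup.center G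

/-- `a` is an element of `r`-power order. -/
def IsEl (r : ℕ) (a : G) : Prop := ∃ k, a ^ r ^ k = 1

/-- All non-central `p`-regular classes have size `m`, and they involve two primes. -/
structure Hyp (p m : ℕ) (G : Type*) [Group G] : Prop where
  size : ∀ x : G, Reg p x → (Subgroup.centralizer ({x} : Set G)).index = m
  two : ∀ r : ℕ, ∃ q : ℕ, q.Prime ∧ q ≠ r ∧ ∃ y : G, Reg p y ∧ IsEl q y

theorem IsEl.coprime {r p : ℕ} {a : G} (ha : IsEl r a) (h : r.Coprime p) :
    (orderOf a).Coprime p := by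
  obtain ⟨k, hk⟩ := ha
  exact Nat.Coprime.coprime_dvd_left (orderOf_dvd_of_pow_eq_one hk) (h.pow_left k)

theorem IsEl.coprime_coprime {r q : ℕ} {a b : G} (ha : IsEl r a) (hb : IsEl q b)
    (h : r.Coprime q) : (orderOf a).Coprime (orderOf b) := by
  obtain ⟨j, hj⟩ := hb
  exact Nat.Coprime.coprime_dvd_right (orderOf_dvd_of_pow_eq_one hj)
    (ha.coprime (h.pow_right j))

theorem IsEl.of_mem_pGroup {r : ℕ} {P : Subgroup G} (hP : IsPGroup r P) {a : G} (ha : a ∈ P) :
    IsEl r a := by
  obtain ⟨k, hk⟩ := hP ⟨a, ha⟩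
  exact ⟨k, by simpa using congrArg Subtype.val hk⟩

theorem IsEl.one {r : ℕ} : IsEl r (1 : G) := ⟨0, one_pow _⟩

theorem IsEl.conj {r : ℕ} {a : G} (ha : IsEl r a) (g : G) : IsEl r (g * a * g⁻¹) := by
  obtain ⟨k, hk⟩ := ha
  exact ⟨k, by rw [conj_pow, hk, mul_one, mul_inv_cancel]⟩

theorem IsEl.pow {r : ℕ} {a : G} (ha : IsEl r a) (n : ℕ) : IsEl r (a ^ n) := by
  obtain ⟨k, hk⟩ := ha
  exact ⟨k, by rw [← pow_mul, mul_comm, pow_mul, hk, one_pow]⟩

theorem Reg.conj {p : ℕ} {x : G} (hx : Reg p x) (g : G) : Reg p (g * x * g⁻¹) := by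
  refine ⟨?_, fun h => hx.2 ?_⟩
  · have : orderOf (g * x * g⁻¹) = orderOf x := by
      simpa using MulEquiv.orderOf_eq (MulAut.conj g) x
    rw [this]
    exact hx.1
  · have := Subgroup.Normal.conj_mem (inferInstance : (Subgroup.center G).Normal) _ h g⁻¹
    simpa [mul_assoc] using this

theorem centralizer_mul_central {x z : G} (hz : z ∈ Subgroup.center G) :
    Subgroup.centralizer ({x * z} : Set G) = Subgroup.centralizer {x} := by
  ext g
  rw [Subgroup.mem_centralizer_singleton_iff, Subgroup.mem_centralizer_singleton_iff, ← mul_assoc,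
    mul_assoc x z g, ← Subgroup.mem_center_iff.1 hz g, ← mul_assoc]
  exact ⟨fun e => mul_right_cancel e, fun e => congrArg (· * z) e⟩

variable [Finite G] {p m : ℕ}

/-- Comparable centralizers of the elements in question coincide. -/
theorem Hyp.eq_of_le (h : Hyp p m G) {x y : G} (hx : Reg p x) (hy : Reg p y)
    (hle : Subgroup.centralizer ({x} : Set G) ≤ Subgroup.centralizer {y}) :
    Subgroup.centralizer ({x} : Set G) = Subgroup.centralizer {y} := by
  refine Subgroup.eq_of_le_of_card_ge hle (le_of_eq ?_)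
  have hm : (Subgroup.centralizer ({x} : Set G)).index ≠ 0 := Subgroup.index_ne_zero_of_finite
  have h1 := (Subgroup.centralizer ({x} : Set G)).card_mul_index
  rw [← (Subgroup.centralizer ({y} : Set G)).card_mul_index, h.size x hx, h.size y hy] at h1
  exact (Nat.eq_of_mul_eq_mul_right (Nat.pos_of_ne_zero (h.size x hx ▸ hm)) h1).symm

theorem Hyp.card_eq (h : Hyp p m G) {x y : G} (hx : Reg p x) (hy : Reg p y) :
    Nat.card (Subgroup.centralizer ({x} : Set G)) = Nat.card (Subgroup.centralizer ({y} : Set G)) := by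
  have hm : (Subgroup.centralizer ({x} : Set G)).index ≠ 0 := Subgroup.index_ne_zero_of_finite
  have h1 := (Subgroup.centralizer ({x} : Set G)).card_mul_index
  rw [← (Subgroup.centralizer ({y} : Set G)).card_mul_index, h.size x hx, h.size y hy] at h1
  exact Nat.eq_of_mul_eq_mul_right (Nat.pos_of_ne_zero (h.size x hx ▸ hm)) h1

theorem Hyp.eq_of_coprime (h : Hyp p m G) {x y : G} (hx : Reg p x) (hy : Reg p y)
    (hc : Commute x y) (hco : (orderOf x).Coprime (orderOf y)) :
    Subgroup.centralizer ({x} : Set G) = Subgroup.centralizer {y} := by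
  have key : ∀ a b : G, Commute a b → (orderOf a).Coprime (orderOf b) →
      a ∈ Subgroup.zpowers (a * b) := by
    intro a b hab hco
    obtain ⟨n, hn⟩ := exists_pow_eq_self_of_coprime hco.symm
    have : (a * b) ^ (orderOf b * n) = a := by
      rw [pow_mul, hab.mul_pow, pow_orderOf_eq_one, mul_one, hn]
    have hmem := Subgroup.npow_mem_zpowers (a * b) (orderOf b * n)
    rwa [this] at hmem
  have hxm := key x y hc hco
  have hym : y ∈ Subgroup.zpowers (x * y) := hc.eq ▸ key y x hc.symm hco.symm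
  have hxy : Reg p (x * y) :=
    ⟨Nat.Coprime.coprime_dvd_left (hc.orderOf_mul_dvd_mul_orderOf) (hx.1.mul_left hy.1),
      fun hh => hx.2 (Subgroup.zpowers_le.2 hh hxm)⟩
  rw [← h.eq_of_le hxy hx (CfsgLib.MaxCentralizers.centralizer_le_of_mem_zpowers hxm),
    h.eq_of_le hxy hy (CfsgLib.MaxCentralizers.centralizer_le_of_mem_zpowers hym)]

/-- A prime power part with the same centralizer. -/
theorem Hyp.primary (h : Hyp p m G) {x : G} (hx : Reg p x) :
    ∃ r, r.Prime ∧ r.Coprime p ∧ ∃ v ∈ Subgroup.zpowers x, Reg p v ∧ IsEl r v ∧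
      Subgroup.centralizer ({x} : Set G) = Subgroup.centralizer {v} := by
  by_contra hcon
  refine hx.2 ((CfsgLib.MaxCentralizers.le_of_primePow (X := Subgroup.zpowers x)
    (Y := Subgroup.center G) fun w hw r k hr hk => ?_) (Subgroup.mem_zpowers x))
  by_contra hwz
  by_cases hk0 : k = 0
  · rw [hk0, pow_zero, orderOf_eq_one_iff] at hk
    exact hwz (hk ▸ one_mem _)
  have hdvd : orderOf w ∣ orderOf x := orderOf_dvd_of_mem_zpowers hw
  have hwreg : Reg p w := ⟨hx.1.coprime_dvd_left hdvd, hwz⟩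
  have hr' : r.Coprime p := by
    have := hwreg.1
    rw [hk] at this
    exact (Nat.coprime_pow_left_iff (Nat.pos_of_ne_zero hk0) _ _).1 this
  exact hcon ⟨r, hr, hr', w, hw, hwreg, ⟨k, hk ▸ pow_orderOf_eq_one w⟩,
    h.eq_of_le hx hwreg (CfsgLib.MaxCentralizers.centralizer_le_of_mem_zpowers hw)⟩

/-- The `r`-part of the order of a subgroup is attained. -/
theorem exists_sylow_card {r : ℕ} [Fact r.Prime] (X : Subgroup G) :
    ∃ P ≤ X, IsPGroup r P ∧ Nat.card P = r ^ (Nat.card X).factorization r := by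
  obtain ⟨S⟩ : Nonempty (Sylow r X) := inferInstance
  refine ⟨(S : Subgroup X).map X.subtype, Subgroup.map_subtype_le _, S.isPGroup'.map _, ?_⟩
  rw [Subgroup.card_map_of_injective X.subtype_injective]
  exact S.card_eq_multiplicity

theorem card_le_of_pGroup {r : ℕ} [Fact r.Prime] {P X : Subgroup G} (hP : IsPGroup r P)
    (hle : P ≤ X) : Nat.card P ≤ r ^ (Nat.card X).factorization r := by
  obtain ⟨k, hk⟩ := IsPGroup.iff_card.1 hP
  rw [hk]
  refine Nat.pow_le_pow_right (Fact.out : r.Prime).pos ?_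
  exact ((Fact.out : r.Prime).pow_dvd_iff_le_factorization Nat.card_pos.ne').1
    (hk ▸ Subgroup.card_dvd_of_le hle)

/-- Every centralizer contains non-central elements of two primes. -/
theorem Hyp.exists_other (h : Hyp p m G) {v : G} {r : ℕ} (hr : r.Prime) (hv : Reg p v)
    (hvr : IsEl r v) :
    ∃ q, q.Prime ∧ q ≠ r ∧ ∃ y, Reg p y ∧ IsEl q y ∧
      Subgroup.centralizer ({y} : Set G) = Subgroup.centralizer {v} := by
  obtain ⟨q, hq, hqr, y, hy, hyq⟩ := h.two r
  haveI : Fact q.Prime := ⟨hq⟩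
  obtain ⟨P, hPle, hP, hPc⟩ := exists_sylow_card (r := q) (Subgroup.centralizer ({v} : Set G))
  by_cases hPz : P ≤ Subgroup.center G
  · exfalso
    -- then the Sylow `q`-part of `C(v)` is smaller than that of `C(y)`
    have hY : IsPGroup q (Subgroup.zpowers y) := by
      obtain ⟨k, hk⟩ := hyq
      obtain ⟨j, -, hj⟩ := (Nat.dvd_prime_pow hq).1 (orderOf_dvd_of_pow_eq_one hk)
      exact IsPGroup.of_card (n := j) (by rw [Nat.card_zpowers, hj])
    have hnorm : Subgroup.zpowers y ≤ Subgroup.normalizer (P : Set G) := by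
      refine le_trans (Subgroup.zpowers_le.2 ?_) le_rfl
      rw [Subgroup.mem_normalizer_iff]
      intro a
      constructor
      · intro ha
        rwa [Subgroup.mem_center_iff.1 (hPz ha) y, mul_inv_cancel_right]
      · intro ha
        have hc := Subgroup.mem_center_iff.1 (hPz ha) y
        have : y * a * y⁻¹ = a :=
          mul_left_cancel (a := y) (by rw [hc, inv_mul_cancel_right])
        rwa [this] at ha
    have hsup : IsPGroup q (Subgroup.zpowers y ⊔ P : Subgroup G) :=
      hY.to_sup_of_normal_right' hP hnorm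
    have hle : Subgroup.zpowers y ⊔ P ≤ Subgroup.centralizer ({y} : Set G) :=
      sup_le (Subgroup.zpowers_le.2 (Subgroup.mem_centralizer_singleton_iff.2 rfl))
        fun a ha => Subgroup.mem_centralizer_singleton_iff.2
          (Subgroup.mem_center_iff.1 (hPz ha) y).symm
    have hlt : P < Subgroup.zpowers y ⊔ P := lt_of_le_of_ne le_sup_right fun he =>
      hy.2 (hPz (he.ge (le_sup_left (b := P) (Subgroup.mem_zpowers y))))
    have hlt' : Nat.card P < Nat.card (Subgroup.zpowers y ⊔ P : Subgroup G) := by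
      by_contra hge
      exact hlt.ne (Subgroup.eq_of_le_of_card_ge hlt.le (not_lt.1 hge))
    have := card_le_of_pGroup hsup hle
    rw [h.card_eq hy hv, ← hPc] at this
    omega
  · obtain ⟨a, haP, haz⟩ := SetLike.not_le_iff_exists.1 hPz
    have haq := IsEl.of_mem_pGroup hP haP
    have har : Reg p a := by
      refine ⟨haq.coprime ?_, haz⟩
      have := hy.1
      obtain ⟨k, hk⟩ := hyq
      obtain ⟨j, -, hj⟩ := (Nat.dvd_prime_pow hq).1 (orderOf_dvd_of_pow_eq_one hk)
      rw [hj] at this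
      rcases Nat.eq_zero_or_pos j with rfl | hj0
      · exact absurd (orderOf_eq_one_iff.1 (by simpa using hj)) fun e => hy.2 (by rw [e]; exact one_mem _)
      · exact (Nat.coprime_pow_left_iff hj0 _ _).1 this
    refine ⟨q, hq, hqr, a, har, haq, h.eq_of_coprime har hv
      (Subgroup.mem_centralizer_singleton_iff.1 (hPle haP)) (haq.coprime_coprime hvr ?_)⟩
    exact (Nat.coprime_primes hq hr).2 hqr

/-- **Commuting non-central `p`-regular elements have the same centralizer.** -/
theorem Hyp.same (h : Hyp p m G) {a x : G} (ha : Reg p a) (hx : Reg p x) (hc : Commute a x) :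
    Subgroup.centralizer ({a} : Set G) = Subgroup.centralizer {x} := by
  obtain ⟨r, hr, -, v, hvx, hv, hvr, hxv⟩ := h.primary hx
  obtain ⟨s, hs, -, w, hwa, hw, hws, haw⟩ := h.primary ha
  rw [hxv, haw]
  have hca : a ∈ Subgroup.centralizer ({v} : Set G) :=
    hxv ▸ Subgroup.mem_centralizer_singleton_iff.2 hc.eq
  have hcw : w ∈ Subgroup.centralizer ({v} : Set G) := Subgroup.zpowers_le.2 hca hwa
  by_cases hsr : s = r
  · subst hsr
    obtain ⟨q, hq, hqs, y, hy, hyq, hyv⟩ := h.exists_other hr hv hvr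
    rw [← hyv] at hcw ⊢
    exact h.eq_of_coprime hw hy (Subgroup.mem_centralizer_singleton_iff.1 hcw)
      (hws.coprime_coprime hyq ((Nat.coprime_primes hs hq).2 (Ne.symm hqs)))
  · exact h.eq_of_coprime hw hv (Subgroup.mem_centralizer_singleton_iff.1 hcw)
      (hws.coprime_coprime hvr ((Nat.coprime_primes hs hr).2 hsr))

theorem Hyp.eq_of_mem (h : Hyp p m G) {a x : G} (ha : Reg p a) (hx : Reg p x)
    (hm : a ∈ Subgroup.centralizer ({x} : Set G)) :
    Subgroup.centralizer ({a} : Set G) = Subgroup.centralizer {x} :=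
  h.same ha hx (Subgroup.mem_centralizer_singleton_iff.1 hm)

theorem Hyp.commute_of_mem (h : Hyp p m G) {a b x : G} (hx : Reg p x)
    (ha : a ∈ Subgroup.centralizer ({x} : Set G)) (hb : b ∈ Subgroup.centralizer ({x} : Set G))
    (hap : (orderOf a).Coprime p) : Commute a b := by
  by_cases haz : a ∈ Subgroup.center G
  · exact (Subgroup.mem_center_iff.1 haz b).symm
  rw [← h.eq_of_mem ⟨hap, haz⟩ hx ha] at hb
  exact (Subgroup.mem_centralizer_singleton_iff.1 hb).symm

/-- The `r`-elements of `C(x)`. -/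
def part (r : ℕ) (x : G) : Subgroup G :=
  Subgroup.closure {a | a ∈ Subgroup.centralizer ({x} : Set G) ∧ IsEl r a}

theorem part_le (r : ℕ) (x : G) : part r x ≤ Subgroup.centralizer ({x} : Set G) :=
  (Subgroup.closure_le _).2 fun _ ha => ha.1

theorem mem_part_of {r : ℕ} {x a : G} (ha : a ∈ Subgroup.centralizer ({x} : Set G))
    (har : IsEl r a) : a ∈ part r x :=
  Subgroup.subset_closure ⟨ha, har⟩

theorem Hyp.mem_part (h : Hyp p m G) {r : ℕ} (hrp : r.Coprime p) {x a : G} (hx : Reg p x) :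
    a ∈ part r x ↔ a ∈ Subgroup.centralizer ({x} : Set G) ∧ IsEl r a := by
  refine ⟨fun ha => ?_, fun ha => mem_part_of ha.1 ha.2⟩
  refine Subgroup.closure_induction (fun b hb => hb) ⟨one_mem _, IsEl.one⟩ ?_ ?_ ha
  · rintro b c _ _ ⟨hb, ⟨i, hi⟩⟩ ⟨hc, ⟨j, hj⟩⟩
    refine ⟨mul_mem hb hc, ⟨i + j, ?_⟩⟩
    rw [(h.commute_of_mem hx hb hc (IsEl.coprime ⟨i, hi⟩ hrp)).mul_pow, pow_add, pow_mul, hi,
      one_pow, one_mul, mul_comm, pow_mul, hj, one_pow]
  · rintro b _ ⟨hb, ⟨i, hi⟩⟩
    exact ⟨inv_mem hb, ⟨i, by rw [inv_pow, hi, inv_one]⟩⟩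

theorem Hyp.part_isPGroup (h : Hyp p m G) {r : ℕ} (hrp : r.Coprime p) {x : G} (hx : Reg p x) :
    IsPGroup r (part r x) := by
  rintro ⟨a, ha⟩
  obtain ⟨k, hk⟩ := ((h.mem_part hrp hx).1 ha).2
  exact ⟨k, Subtype.ext (by simpa using hk)⟩

theorem Hyp.part_comm (h : Hyp p m G) {r : ℕ} (hrp : r.Coprime p) {x a b : G} (hx : Reg p x)
    (ha : a ∈ part r x) (hb : b ∈ part r x) : Commute a b :=
  h.commute_of_mem hx (part_le r x ha) (part_le r x hb) (((h.mem_part hrp hx).1 ha).2.coprime hrp)

theorem Hyp.part_eq (h : Hyp p m G) {r : ℕ} {a x : G} (ha : Reg p a) (hx : Reg p x)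
    (hm : a ∈ Subgroup.centralizer ({x} : Set G)) : part r a = part r x := by
  unfold part
  rw [h.eq_of_mem ha hx hm]

theorem Hyp.card_part (h : Hyp p m G) {r : ℕ} [Fact r.Prime] (hrp : r.Coprime p) {x : G}
    (hx : Reg p x) :
    Nat.card (part r x) = r ^ (Nat.card (Subgroup.centralizer ({x} : Set G))).factorization r := by
  obtain ⟨P, hPle, hP, hPc⟩ := exists_sylow_card (r := r) (Subgroup.centralizer ({x} : Set G))
  refine le_antisymm (card_le_of_pGroup (h.part_isPGroup hrp hx) (part_le r x)) ?_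
  rw [← hPc]
  exact Subgroup.card_le_of_le fun a ha => mem_part_of (hPle ha) (IsEl.of_mem_pGroup hP ha)

theorem Hyp.card_part_eq (h : Hyp p m G) {r : ℕ} [Fact r.Prime] (hrp : r.Coprime p) {x y : G}
    (hx : Reg p x) (hy : Reg p y) : Nat.card (part r x) = Nat.card (part r y) := by
  rw [h.card_part hrp hx, h.card_part hrp hy, h.card_eq hx hy]

/-- An element fixing `x` up to a central factor normalises `C(x)` and its parts. -/
theorem conj_mem_part {r : ℕ} {x g a : G}
    (hC : Subgroup.centralizer ({g * x * g⁻¹} : Set G) = Subgroup.centralizer {x})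
    (ha : a ∈ part r x) : g * a * g⁻¹ ∈ part r x := by
  have hle : part r x ≤ (part r x).comap (MulAut.conj g).toMonoidHom := by
    refine (Subgroup.closure_le _).2 fun b hb => mem_part_of ?_ (hb.2.conj g)
    change g * b * g⁻¹ ∈ Subgroup.centralizer ({x} : Set G)
    rw [← hC, Subgroup.mem_centralizer_singleton_iff]
    calc g * b * g⁻¹ * (g * x * g⁻¹) = g * (b * x) * g⁻¹ := by group
      _ = g * (x * b) * g⁻¹ := by rw [Subgroup.mem_centralizer_singleton_iff.1 hb.1]
      _ = g * x * g⁻¹ * (g * b * g⁻¹) := by group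
  exact hle ha

end CfsgLib.TwoRegular
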