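import Cfsg.Agent.TwoRegular.TwoPrimes
import Cfsg.Agent.Chars.Apps.Burnside

/-!
The class size of non-central `p`-regular elements is a power of `p`.
-/

set_option autoImplicit false

open scoped commutatorElement

namespace CfsgLib.TwoRegular

variable {G : Type*} [Group G]

theorem Hyp.exists_reg {p m : ℕ} (h : Hyp p m G) : ∃ u : G, Reg p u := by
  obtain ⟨_, _, _, u, hu, _⟩ := h.two 0
  exact ⟨u, hu⟩

variable [Finite G] {p m r : ℕ}

theorem card_sup_mul_card_inf (C N : Subgroup G) [N.Normal] :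
    Nat.card (C ⊔ N : Subgroup G) * Nat.card (C ⊓ N : Subgroup G) = Nat.card C * Nat.card N := by
  have key : ∀ X : Subgroup G, Nat.card (N ⊓ X : Subgroup G) * Nat.card (X.map (QuotientGroup.mk' N)) =
      Nat.card X := by
    intro X
    rw [← Subgroup.relIndex_ker, QuotientGroup.ker_mk', ← Subgroup.inf_relIndex_right,
      Subgroup.relIndex, ← Nat.card_congr (Subgroup.subgroupOfEquivOfLe (inf_le_right : N ⊓ X ≤ X)).toEquiv]
    exact Subgroup.card_mul_index _
  have hmap : (C ⊔ N).map (QuotientGroup.mk' N) = C.map (QuotientGroup.mk' N) := by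
    rw [Subgroup.map_sup, QuotientGroup.map_mk'_self, sup_bot_eq]
  have h1 := key C
  have h2 := key (C ⊔ N)
  rw [hmap, inf_of_le_left le_sup_right] at h2
  rw [← h1, ← h2, inf_comm N C]
  ring

theorem relIndex_dvd_index_of_normal_right (C N : Subgroup G) [N.Normal] :
    C.relIndex N ∣ C.index := by
  have h1 := card_sup_mul_card_inf C N
  have h2 : Nat.card (C ⊓ N : Subgroup G) * C.relIndex N = Nat.card N := by
    rw [← Subgroup.inf_relIndex_right, Subgroup.relIndex,
      ← Nat.card_congr (Subgroup.subgroupOfEquivOfLe (inf_le_right : C ⊓ N ≤ N)).toEquiv]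
    exact Subgroup.card_mul_index _
  have h3 : Nat.card C * C.relIndex (C ⊔ N) = Nat.card (C ⊔ N : Subgroup G) := by
    rw [Subgroup.relIndex, ← Nat.card_congr
      (Subgroup.subgroupOfEquivOfLe (le_sup_left : C ≤ C ⊔ N)).toEquiv]
    exact Subgroup.card_mul_index _
  have h4 : C.relIndex N = C.relIndex (C ⊔ N) := by
    rw [← h2, ← h3] at h1
    refine (mul_right_inj' (mul_ne_zero (Nat.card_pos (α := C)).ne'
      (Nat.card_pos (α := (C ⊓ N : Subgroup G))).ne')).1 ?_
    linarith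
  exact h4 ▸ Subgroup.relIndex_dvd_index_of_le le_sup_left

theorem reg_of_isEl (hp : p.Prime) {t : ℕ} (ht : t.Prime) (htp : t ≠ p) {a : G} (ha : IsEl t a) :
    (orderOf a).Coprime p :=
  ha.coprime ((Nat.coprime_primes ht hp).2 htp)

/-- The non-abelian chief factor is impossible. -/
theorem Hyp.nonabelian_false (h : Hyp p m G) (hp : p.Prime) (hr : r.Prime)
    (hone : ∀ t : ℕ, t.Prime → t ≠ p → t ∣ m → t = r) {M N : Subgroup G} [M.Normal] [N.Normal]
    (hMN : M < N) (hmin : ∀ L : Subgroup G, L.Normal → M ≤ L → L ≤ N → L = M ∨ L = N)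
    (hMZ : Subgroup.center G ≤ M) (hna : ¬ ⁅N, N⁆ ≤ M) {T : Subgroup G} (hTN : T ≤ N)
    (hTc : Nat.card T = r ^ (Nat.card N).factorization r) {y : G} (hyN : y ∈ N) (hyM : y ∉ M)
    (hy : Reg p y) (hTy : ∀ a ∈ T, ⁅a, y⁆ ∈ Subgroup.center G) : False := by
  haveI : Fact r.Prime := ⟨hr⟩
  obtain ⟨K, -, hK⟩ := Finite.exists_le_maximal
    (p := fun K : Subgroup N => K.Normal ∧ M.subgroupOf N ≤ K ∧ K ≠ ⊤) (a := M.subgroupOf N)
    ⟨inferInstance, le_rfl, fun e => hMN.not_ge (Subgroup.subgroupOf_eq_top.1 e)⟩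
  obtain ⟨hKn, hKM, hKt⟩ := hK.prop
  haveI := hKn
  have hsimple : IsSimpleGroup (N ⧸ K) := by
    haveI : Nontrivial (N ⧸ K) := QuotientGroup.nontrivial_iff.2 hKt
    refine ⟨fun L hL => ?_⟩
    have hcomap : K ≤ L.comap (QuotientGroup.mk' K) := by
      intro a ha
      rw [Subgroup.mem_comap, QuotientGroup.mk'_apply, (QuotientGroup.eq_one_iff a).2 ha]
      exact one_mem _
    by_cases htop : L.comap (QuotientGroup.mk' K) = ⊤
    · right
      refine Subgroup.comap_injective (QuotientGroup.mk'_surjective K) ?_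
      rw [htop, Subgroup.comap_top]
    · left
      refine Subgroup.comap_injective (QuotientGroup.mk'_surjective K) ?_
      rw [MonoidHom.comap_bot, QuotientGroup.ker_mk']
      exact le_antisymm (hK.le_of_ge ⟨inferInstance, hKM.trans hcomap, htop⟩ hcomap) hcomap
  set K' := K.map N.subtype with hK'
  have hK'N : K' ≤ N := Subgroup.map_subtype_le _
  have hMK' : M ≤ K' := fun a ha => ⟨⟨a, hMN.le ha⟩, hKM ha, rfl⟩
  have hNK' : ¬ N ≤ K' := fun e => hKt ((Subgroup.eq_top_iff' K).2 fun a => by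
    obtain ⟨b, hb, hba⟩ := e a.2
    rwa [← Subtype.ext hba])
  have hcomm : ¬ IsMulCommutative (N ⧸ K) := by
    intro hc
    have h1 : ⁅N, N⁆ ≤ K' := by
      rw [Subgroup.commutator_le]
      intro a ha b hb
      refine ⟨⁅(⟨a, ha⟩ : N), (⟨b, hb⟩ : N)⁆, ?_, rfl⟩
      refine (QuotientGroup.eq_one_iff _).1 ?_
      change QuotientGroup.mk' K ⁅(⟨a, ha⟩ : N), (⟨b, hb⟩ : N)⁆ = 1
      rw [map_commutatorElement, commutatorElement_eq_one_iff_mul_comm]
      exact hc.1.1 _ _
    have hle : ⁅N, N⁆ ⊔ M ≤ N := sup_le (Subgroup.commutator_le_right N N) hMN.le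
    rcases hmin (⁅N, N⁆ ⊔ M) inferInstance le_sup_right hle with e | e
    · exact hna (le_sup_left.trans e.le)
    · exact hNK' (e.ge.trans (sup_le h1 hMK'))
  obtain ⟨g, hg⟩ : ∃ g : G, g * y * g⁻¹ ∉ K' := by
    by_contra hcon
    push Not at hcon
    rcases hmin K'.normalCore inferInstance (Subgroup.normal_le_normalCore.2 hMK')
        ((Subgroup.normalCore_le _).trans hK'N) with e | e
    · exact hyM (e.le hcon)
    · exact hNK' (e.ge.trans (Subgroup.normalCore_le _))
  have hy'N : g * y * g⁻¹ ∈ N := (inferInstance : N.Normal).conj_mem y hyN g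
  set y' : N := ⟨g * y * g⁻¹, hy'N⟩ with hy'
  set c : N ⧸ K := QuotientGroup.mk' K y' with hc
  have hc1 : c ≠ 1 := fun e => hg ⟨y', (QuotientGroup.eq_one_iff y').1 e, rfl⟩
  set U : Subgroup N := (Subgroup.centralizer ({c} : Set (N ⧸ K))).comap (QuotientGroup.mk' K) with hU
  have hUmem : ∀ a : N, ⁅a, y'⁆ ∈ K → a ∈ U := by
    intro a ha
    rw [hU, Subgroup.mem_comap, Subgroup.mem_centralizer_singleton_iff, hc,
      ← commutatorElement_eq_one_iff_mul_comm, ← map_commutatorElement]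
    exact (QuotientGroup.eq_one_iff _).2 ha
  have hdm : U.index ∣ m := by
    rw [← h.size _ (hy.conj g)]
    refine (Subgroup.index_dvd_of_le (H := (Subgroup.centralizer ({g * y * g⁻¹} : Set G)).subgroupOf N)
      fun a ha => hUmem a ?_).trans (relIndex_dvd_index_of_normal_right _ N)
    have : ⁅a, y'⁆ = 1 := by
      rw [commutatorElement_eq_one_iff_mul_comm]
      exact Subtype.ext (Subgroup.mem_centralizer_singleton_iff.1 ha)
    rw [this]
    exact one_mem _
  have hTg : T.map (MulAut.conj g).toMonoidHom ≤ N := by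
    rintro _ ⟨a, ha, rfl⟩
    exact (inferInstance : N.Normal).conj_mem a (hTN ha) g
  have hrU : ¬ r ∣ U.index := by
    intro hd
    have hle : (T.map (MulAut.conj g).toMonoidHom).subgroupOf N ≤ U := by
      intro a ha
      obtain ⟨b, hb, hba⟩ := Subgroup.mem_subgroupOf.1 ha
      refine hUmem a (hKM (Subgroup.mem_subgroupOf.2 (hMZ ?_)))
      change ⁅(a : G), g * y * g⁻¹⁆ ∈ Subgroup.center G
      rw [← hba]
      change ⁅g * b * g⁻¹, g * y * g⁻¹⁆ ∈ Subgroup.center G
      rw [show ⁅g * b * g⁻¹, g * y * g⁻¹⁆ = g * ⁅b, y⁆ * g⁻¹ by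
        simp only [commutatorElement_def]; group]
      exact conj_mem_center (hTy b hb)
    have h1 := hd.trans (Subgroup.index_dvd_of_le hle)
    have h2 := Subgroup.card_mul_index ((T.map (MulAut.conj g).toMonoidHom).subgroupOf N)
    rw [Nat.card_congr (Subgroup.subgroupOfEquivOfLe hTg).toEquiv,
      Subgroup.card_map_of_injective (MulAut.conj g).injective, hTc] at h2
    refine Nat.pow_succ_factorization_not_dvd (Nat.card_pos (α := N)).ne' hr ?_
    have h3 := mul_dvd_mul_left (r ^ (Nat.card N).factorization r) h1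
    rwa [h2, ← pow_succ] at h3
  have hidx : (Subgroup.centralizer ({c} : Set (N ⧸ K))).index = U.index :=
    (Subgroup.index_comap_of_surjective _ (QuotientGroup.mk'_surjective K)).symm
  refine CfsgLib.Chars.Apps.not_prime_pow_index_centralizer_of_isSimpleGroup
    (k := U.index.primeFactorsList.length) hcomm hp c hc1 (hidx.trans ?_)
  refine Nat.eq_prime_pow_of_unique_prime_dvd Subgroup.index_ne_zero_of_finite fun {t} ht htd => ?_
  by_contra htp
  exact hrU (hone t ht htp (htd.trans hdm) ▸ htd)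

/-- The abelian chief factor is impossible. -/
theorem Hyp.abelian_false (h : Hyp p m G) (hp : p.Prime) (hr : r.Prime) (hrp : r ≠ p)
    (hrm : r ∣ m) (hone : ∀ t : ℕ, t.Prime → t ≠ p → t ∣ m → t = r)
    {M N : Subgroup G} [M.Normal] [N.Normal]
    (hMN : M < N) (hM : ∀ a ∈ M, (orderOf a).Coprime p → a ∈ Subgroup.center G)
    (hMZ : Subgroup.center G ≤ M) {s : ℕ} (hs : s.Prime) (hsp : s ≠ p)
    (hNs : ∀ a ∈ N, ∃ k, a ^ s ^ k ∈ M) : False := by
  haveI : Fact r.Prime := ⟨hr⟩
  haveI : Fact s.Prime := ⟨hs⟩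
  have hrc : r.Coprime p := (Nat.coprime_primes hr hp).2 hrp
  have hsc : s.Coprime p := (Nat.coprime_primes hs hp).2 hsp
  obtain ⟨T₀⟩ : Nonempty (Sylow s N) := inferInstance
  set T := (T₀ : Subgroup N).map N.subtype with hT
  have hTN : T ≤ N := Subgroup.map_subtype_le _
  have hTp : IsPGroup s T := T₀.isPGroup'.map _
  obtain ⟨S, hS⟩ := hTp.exists_le_sylow
  have hTS : T = (S : Subgroup G) ⊓ N := by
    refine le_antisymm (le_inf hS hTN) fun a ha => ?_
    have hsub : (T₀ : Subgroup N) ≤ ((S : Subgroup G) ⊓ N).subgroupOf N := fun b hb =>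
      Subgroup.mem_subgroupOf.2 ⟨hS ⟨b, hb, rfl⟩, b.2⟩
    have hpg : IsPGroup s (((S : Subgroup G) ⊓ N).subgroupOf N) :=
      (S.isPGroup'.to_le inf_le_left).of_equiv (Subgroup.subgroupOfEquivOfLe inf_le_right).symm
    exact ⟨⟨a, ha.2⟩, (T₀.3 hpg hsub).le (Subgroup.mem_subgroupOf.2 ha), rfl⟩
  -- `N = MT`
  have hNMT : N ≤ M ⊔ T := by
    let A := M.subgroupOf N
    let X := (M ⊔ T).subgroupOf N
    have hA : IsPGroup s (N ⧸ A) := by
      intro a
      induction a using QuotientGroup.induction_on with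
      | _ a =>
        obtain ⟨k, hk⟩ := hNs a a.2
        refine ⟨k, ?_⟩
        rw [← QuotientGroup.mk_pow, QuotientGroup.eq_one_iff, Subgroup.mem_subgroupOf]
        simpa using hk
    obtain ⟨k, hk⟩ := IsPGroup.iff_card.1 hA
    have h1 : X.index ∣ s ^ k := by
      rw [← hk]
      exact Subgroup.index_dvd_of_le (H := A) fun a ha =>
        Subgroup.mem_subgroupOf.2 (le_sup_left (b := T) (Subgroup.mem_subgroupOf.1 ha))
    have h2 : X.index ∣ (T₀ : Subgroup N).index :=
      Subgroup.index_dvd_of_le fun a ha => Subgroup.mem_subgroupOf.2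
        (le_sup_right (a := M) ⟨a, ha, rfl⟩)
    have h3 : X.index = 1 := Nat.eq_one_of_dvd_coprimes
      ((hs.coprime_iff_not_dvd.2 T₀.not_dvd_index).pow_left k) h1 h2
    exact Subgroup.subgroupOf_eq_top.1 (Subgroup.index_eq_one.1 h3)
  -- an element of `T` whose centralizer contains `T`
  obtain ⟨x, hxT, hx, hTx⟩ : ∃ x ∈ T, Reg p x ∧ T ≤ Subgroup.centralizer ({x} : Set G) := by
    have hTz : ¬ T ≤ Subgroup.center G := fun hle =>
      hMN.not_ge (hNMT.trans (sup_le le_rfl (hle.trans hMZ)))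
    by_cases hsm : s ∣ m
    · have hsr : s = r := hone s hs hsp hsm
      subst hsr
      obtain ⟨x, hxT, hx⟩ := exists_good hrc S hS (fun g hg t ht => by
        rw [hTS] at ht ⊢
        exact Subgroup.mem_inf.2 ⟨mul_mem (mul_mem hg (Subgroup.mem_inf.1 ht).1) (inv_mem hg),
          (inferInstance : N.Normal).conj_mem t ht.2 g⟩) hTz
      refine ⟨x, hxT, hx.reg, fun g hg => ?_⟩
      by_contra hgC
      obtain ⟨q, hq, hqs, a, ha, haq, hax⟩ := h.exists_other hs hx.reg hx.el
      have hqp : q.Coprime p := IsEl.coprime_of_reg hq ha haq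
      have haA : a ∈ part q x :=
        mem_part_of (hax ▸ Subgroup.mem_centralizer_singleton_iff.2 rfl) haq
      have hcA : ⁅g, a⁆ ∈ part q x :=
        mul_mem (conj_mem_part (centralizer_conj_eq (hx.comm g (hS hg))) haA) (inv_mem haA)
      have hcN : ⁅g, a⁆ ∈ N := by
        have : ⁅g, a⁆ = g * (a * g⁻¹ * a⁻¹) := by simp only [commutatorElement_def]; group
        rw [this]
        exact mul_mem (hTN hg) ((inferInstance : N.Normal).conj_mem _ (inv_mem (hTN hg)) a)
      obtain ⟨k, hk⟩ := hNs _ hcN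
      have hcel : IsEl q ⁅g, a⁆ := ((h.mem_part hqp hx.reg).1 hcA).2
      obtain ⟨n, hn⟩ := exists_pow_eq_self_of_coprime
        (IsEl.coprime hcel (((Nat.coprime_primes hq hs).2 hqs).pow_right k)).symm
      have hcM : ⁅g, a⁆ ∈ M := hn ▸ pow_mem hk n
      refine hgC ?_
      rw [← hax]
      exact Subgroup.mem_centralizer_singleton_iff.2 (commute_of_comm_mem_center
        (IsEl.of_mem_pGroup hTp hg) haq ((Nat.coprime_primes hs hq).2 (Ne.symm hqs))
        (hM _ hcM (hcel.coprime hqp))).eq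
    · obtain ⟨x, hxT, hxz⟩ := SetLike.not_le_iff_exists.1 hTz
      have hx : Reg p x := ⟨reg_of_isEl hp hs hsp (IsEl.of_mem_pGroup hTp hxT), hxz⟩
      refine ⟨x, hxT, hx, fun g hg => ?_⟩
      obtain ⟨S', hS'⟩ := (h.part_isPGroup hsc hx).exists_le_sylow
      have hcard : Nat.card S' ≤ Nat.card (part s x) := by
        rw [S'.card_eq_multiplicity, h.card_part hsc hx]
        refine Nat.pow_le_pow_right hs.pos ?_
        have h1 := (Subgroup.centralizer ({x} : Set G)).card_mul_index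
        rw [h.size x hx] at h1
        have hm0 : m ≠ 0 := h.size x hx ▸ Subgroup.index_ne_zero_of_finite
        rw [← h1, Nat.factorization_mul Nat.card_pos.ne' hm0, Finsupp.add_apply,
          Nat.factorization_eq_zero_of_not_dvd hsm, add_zero]
      have heq := Subgroup.eq_of_le_of_card_ge hS' hcard
      obtain ⟨b, hb⟩ := MulAction.exists_smul_eq G S' S
      have hconj : ∀ a ∈ T, b⁻¹ * a * b ∈ part s x := by
        intro a ha
        have : a ∈ (b • S' : Sylow s G).toSubgroup := by rw [hb]; exact hS ha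
        rw [Sylow.coe_subgroup_smul, Subgroup.mem_pointwise_smul_iff_inv_smul_mem] at this
        rw [heq]
        simpa [MulAut.smul_def, MulAut.conj_inv_apply] using this
      refine Subgroup.mem_centralizer_singleton_iff.2 ?_
      have hcomm := (h.part_comm hsc hx (hconj g hg) (hconj x hxT)).map (MulAut.conj b).toMonoidHom
      simpa [mul_assoc] using hcomm.eq
  set C := Subgroup.centralizer ({x} : Set G) with hC
  set B := C ⊔ M with hB
  have hBn : B.Normal := by
    refine Subgroup.normalizer_eq_top_iff.1 (top_le_iff.1 ?_)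
    have hfr : Subgroup.normalizer (T : Set G) ⊔ N = ⊤ := Sylow.normalizer_sup_eq_top T₀
    rw [← hfr]
    have hMB : M ≤ Subgroup.normalizer (B : Set G) :=
      (le_sup_right : M ≤ B).trans Subgroup.le_normalizer
    have hnor : Subgroup.normalizer (T : Set G) ≤ Subgroup.normalizer (B : Set G) := by
      have hstep : ∀ g ∈ Subgroup.normalizer (T : Set G), ∀ a ∈ B, g * a * g⁻¹ ∈ B := by
        intro g hg a ha
        have hgx : g * x * g⁻¹ ∈ T := ((Subgroup.mem_normalizer_iff.1 hg) x).1 hxT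
        have hCg : Subgroup.centralizer ({g * x * g⁻¹} : Set G) = C :=
          h.eq_of_mem (hx.conj g) hx (hTx hgx)
        have hle : B ≤ B.comap (MulAut.conj g).toMonoidHom := by
          refine sup_le (fun c hc => ?_) fun c hc => ?_
          · change g * c * g⁻¹ ∈ B
            refine le_sup_left (b := M) ?_
            rw [← hCg, Subgroup.mem_centralizer_singleton_iff]
            have := (Subgroup.mem_centralizer_singleton_iff.1 hc : c * x = x * c)
            calc g * c * g⁻¹ * (g * x * g⁻¹) = g * (c * x) * g⁻¹ := by group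
              _ = g * (x * c) * g⁻¹ := by rw [this]
              _ = g * x * g⁻¹ * (g * c * g⁻¹) := by group
          · exact le_sup_right (a := C) ((inferInstance : M.Normal).conj_mem c hc g)
        exact hle ha
      intro g hg
      refine Subgroup.mem_normalizer_iff.2 fun a => ⟨hstep g hg a, fun ha => ?_⟩
      have := hstep g⁻¹ (inv_mem hg) _ ha
      simpa [mul_assoc] using this
    exact sup_le hnor (hNMT.trans (sup_le hMB (Subgroup.le_normalizer.trans hnor)))
  haveI := hBn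
  -- `B` and `C` have the same parts outside `p`
  have hfac : ∀ t : ℕ, t.Prime → t ≠ p →
      (Nat.card B).factorization t = (Nat.card C).factorization t := by
    intro t ht htp
    haveI : Fact t.Prime := ⟨ht⟩
    obtain ⟨P, hPM, hP, hPc⟩ := exists_sylow_card (r := t) M
    have hPC : P ≤ C ⊓ M := fun a ha => ⟨Subgroup.mem_centralizer_singleton_iff.2
      (Subgroup.mem_center_iff.1 (hM a (hPM ha)
        (reg_of_isEl hp ht htp (IsEl.of_mem_pGroup hP ha))) x).symm, hPM ha⟩
    have h1 := congrArg (fun n => n.factorization t) (card_sup_mul_card_inf C M)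
    simp only [Nat.factorization_mul Nat.card_pos.ne' Nat.card_pos.ne', Finsupp.add_apply] at h1
    have h2 := card_le_of_pGroup hP hPC
    rw [hPc] at h2
    have h3 := (Nat.pow_le_pow_iff_right ht.one_lt).1 h2
    have h4 : (Nat.card (C ⊓ M : Subgroup G)).factorization t ≤ (Nat.card M).factorization t :=
      (Nat.factorization_le_iff_dvd Nat.card_pos.ne' Nat.card_pos.ne').2
        (Subgroup.card_dvd_of_le inf_le_right) t
    rw [← hB] at h1
    omega
  -- an element of a Sylow `r`-subgroup outside `B`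
  obtain ⟨R, x₀, hx₀, hx₀C⟩ := h.exists_frame (r := r) hrc hrm hx
  obtain ⟨g, hgR, hgC, hg, hgl⟩ := h.exists_outside hrc hrm hx₀
  have hgB : g ∉ B := by
    intro hgB
    have h1 : part r x₀ ≤ (R : Subgroup G) ⊓ B := by
      rw [h.good_part hrc hx₀]
      exact inf_le_inf le_rfl (by rw [hx₀C]; exact le_sup_left)
    have h2 : Nat.card ((R : Subgroup G) ⊓ B : Subgroup G) ≤ Nat.card (part r x₀) := by
      refine (card_le_of_pGroup (R.isPGroup'.to_le inf_le_left) inf_le_right).trans (le_of_eq ?_)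
      rw [h.card_part hrc hx₀.reg, hx₀C, hfac r hr hrp]
    exact hgC (part_le r x₀ ((Subgroup.eq_of_le_of_card_ge h1 h2).ge ⟨hgR, hgB⟩))
  obtain ⟨q, hq, hqr, y₀, hy₀, hy₀q, hy₀g⟩ := h.exists_other hr hg hgl
  haveI : Fact q.Prime := ⟨hq⟩
  have hqc : q.Coprime p := IsEl.coprime_of_reg hq hy₀ hy₀q
  have hqp : q ≠ p := (Nat.coprime_primes hq hp).1 hqc
  rw [← hC] at hx₀C
  have hx₀B : x₀ ∈ B := le_sup_left (b := M) (by
    rw [← hx₀C]; exact Subgroup.mem_centralizer_singleton_iff.2 rfl)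
  set Y := part q g with hY
  have hYn : ∀ a ∈ Y, ⁅x₀, a⁆ ∈ Y := fun a ha => mul_mem
    (conj_mem_part (centralizer_conj_eq (comm_mem_center_symm (hx₀.comm g hgR))) ha) (inv_mem ha)
  let φ : Y →* G ⧸ Subgroup.center G :=
    { toFun := fun a => bq G ⁅x₀, (a : G)⁆
      map_one' := by simp
      map_mul' := fun a b => by
        rw [← map_mul]
        refine congrArg (bq G) ?_
        calc ⁅x₀, ((a * b : Y) : G)⁆ = ⁅x₀, (a : G)⁆ * ((a : G) * ⁅x₀, (b : G)⁆ * (a : G)⁻¹) := by
              simp only [Subgroup.coe_mul, commutatorElement_def]; group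
          _ = ⁅x₀, (a : G)⁆ * ⁅x₀, (b : G)⁆ := by
              rw [(h.part_comm hqc hg a.2 (hYn b b.2)).eq, mul_inv_cancel_right] }
  let ψ : Y →* G ⧸ Subgroup.center G := (bq G).comp Y.subtype
  have hker : φ.ker ≤ ψ.ker := by
    intro a ha
    rw [MonoidHom.mem_ker] at ha ⊢
    have haq : IsEl q (a : G) := ((h.mem_part hqc hg).1 a.2).2
    refine bq_eq_one.2 (h.mem_center_of_fixed hqc hg a.2 (fun e => hgC ?_)
      (commute_of_comm_mem_center hx₀.el haq ((Nat.coprime_primes hr hq).2 (Ne.symm hqr))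
        (bq_eq_one.1 ha)))
    exact Subgroup.mem_centralizer_singleton_iff.2 (Subgroup.mem_centralizer_singleton_iff.1 e).symm
  have hrange : φ.range ≤ (Y ⊓ B).map (bq G) := by
    rintro _ ⟨a, rfl⟩
    refine ⟨⁅x₀, (a : G)⁆, ⟨hYn a a.2, ?_⟩, rfl⟩
    have : ⁅x₀, (a : G)⁆ = x₀ * ((a : G) * x₀⁻¹ * (a : G)⁻¹) := by
      simp only [commutatorElement_def]; group
    rw [this]
    exact mul_mem hx₀B (hBn.conj_mem _ (inv_mem hx₀B) a)
  have hsub : (Y ⊓ B).map (bq G) ≤ ψ.range := by
    rintro _ ⟨a, ha, rfl⟩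
    exact ⟨⟨a, ha.1⟩, rfl⟩
  have hrng : φ.range = ψ.range := by
    refine Subgroup.eq_of_le_of_card_ge (hrange.trans hsub) ?_
    rw [← Subgroup.index_ker, ← Subgroup.index_ker]
    exact Nat.le_of_dvd (Nat.pos_of_ne_zero Subgroup.index_ne_zero_of_finite)
      (Subgroup.index_dvd_of_le hker)
  have hYB : Y ≤ B := by
    intro a ha
    obtain ⟨b, hb, hba⟩ := hrange (hrng.ge ⟨⟨a, ha⟩, rfl⟩ : ψ ⟨a, ha⟩ ∈ φ.range)
    have hz : b⁻¹ * a ∈ Subgroup.center G := by
      rw [← bq_eq_one, map_mul, map_inv, hba]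
      exact inv_mul_cancel _
    have : a = b * (b⁻¹ * a) := by group
    rw [this]
    exact mul_mem hb.2 (le_sup_right (a := C) (hMZ hz))
  have hPB : part q x₀ ≤ B := (part_le q x₀).trans (hx₀C ▸ le_sup_left)
  have hqB : ∀ {u : G}, Reg p u → (hle : part q u ≤ B) →
      Nat.card ((part q u).subgroupOf B) = q ^ (Nat.card B).factorization q := by
    intro u hu hle
    rw [Nat.card_congr (Subgroup.subgroupOfEquivOfLe hle).toEquiv, h.card_part hqc hu,
      hfac q hq hqp, h.card_eq hu hx]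
  obtain ⟨b, hb⟩ := MulAction.exists_smul_eq B
    (Sylow.ofCard ((part q x₀).subgroupOf B) (hqB hx₀.reg hPB))
    (Sylow.ofCard (Y.subgroupOf B) (hqB hg hYB))
  have hy₀Y : y₀ ∈ Y := mem_part_of (hy₀g ▸ Subgroup.mem_centralizer_singleton_iff.2 rfl) hy₀q
  have hy₀S : (⟨y₀, hYB hy₀Y⟩ : B) ∈ (Sylow.ofCard (Y.subgroupOf B) (hqB hg hYB)).toSubgroup := hy₀Y
  rw [← hb, Sylow.coe_subgroup_smul, Subgroup.mem_pointwise_smul_iff_inv_smul_mem] at hy₀S
  have ha : (b : G)⁻¹ * y₀ * b ∈ part q x₀ := by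
    simpa [MulAut.smul_def, MulAut.conj_inv_apply, Subgroup.mem_subgroupOf] using hy₀S
  have hareg : Reg p ((b : G)⁻¹ * y₀ * b) := by simpa using hy₀.conj (b : G)⁻¹
  have hCa := h.eq_of_mem hareg hx₀.reg (part_le q x₀ ha)
  rw [hx₀C] at hCa
  have hgb : (b : G)⁻¹ * g * b ∈ B := by
    refine le_sup_left (b := M) ?_
    rw [← hCa, Subgroup.mem_centralizer_singleton_iff]
    have hc : Commute g y₀ := Subgroup.mem_centralizer_singleton_iff.1
      (hy₀g ▸ Subgroup.mem_centralizer_singleton_iff.2 rfl)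
    calc (b : G)⁻¹ * g * b * ((b : G)⁻¹ * y₀ * b) = (b : G)⁻¹ * (g * y₀) * b := by group
      _ = (b : G)⁻¹ * (y₀ * g) * b := by rw [hc.eq]
      _ = (b : G)⁻¹ * y₀ * b * ((b : G)⁻¹ * g * b) := by group
  have := mul_mem (mul_mem b.2 hgb) (inv_mem b.2)
  exact hgB (by simpa [mul_assoc] using this)

/-- **The class size is a power of `p`.** -/
theorem Hyp.not_dvd (h : Hyp p m G) (hp : p.Prime) (hr : r.Prime) (hrp : r ≠ p) : ¬ r ∣ m := by
  intro hrm
  haveI : Fact r.Prime := ⟨hr⟩
  obtain ⟨u, hu⟩ := h.exists_reg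
  have hrc : r.Coprime p := (Nat.coprime_primes hr hp).2 hrp
  have hone : ∀ t : ℕ, t.Prime → t ≠ p → t ∣ m → t = r := by
    intro t ht htp htm
    by_contra htr
    have htc : t.Coprime p := (Nat.coprime_primes ht hp).2 htp
    rcases lt_or_gt_of_ne htr with hlt | hlt
    · exact h.two_primes_false hr ht hlt hrc htc hrm htm hu
    · exact h.two_primes_false ht hr hlt htc hrc htm hrm hu
  obtain ⟨M, hMZ, hMmax⟩ := Finite.exists_le_maximal
    (p := fun M : Subgroup G => M.Normal ∧ ∀ a ∈ M, (orderOf a).Coprime p → a ∈ Subgroup.center G)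
    (a := Subgroup.center G) ⟨inferInstance, fun a ha _ => ha⟩
  obtain ⟨hMn, hM⟩ := hMmax.prop
  haveI := hMn
  obtain ⟨N, -, hNmin⟩ := Finite.exists_le_minimal
    (p := fun N : Subgroup G => N.Normal ∧ M < N) (a := ⊤)
    ⟨inferInstance, lt_top_iff_ne_top.2 fun e => hu.2 (hM u (e ▸ Subgroup.mem_top u) hu.1)⟩
  obtain ⟨hNn, hMN⟩ := hNmin.prop
  haveI := hNn
  have hmin : ∀ L : Subgroup G, L.Normal → M ≤ L → L ≤ N → L = M ∨ L = N := by
    intro L hL hML hLN
    rcases eq_or_lt_of_le hML with e | e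
    · exact Or.inl e.symm
    · exact Or.inr (le_antisymm hLN (hNmin.le_of_le ⟨hL, e⟩ hLN))
  obtain ⟨y, hyN, hy⟩ : ∃ y ∈ N, Reg p y := by
    by_contra hcon
    refine hMN.not_ge (hMmax.le_of_ge ⟨hNn, fun a ha hap => ?_⟩ hMN.le)
    by_contra haz
    exact hcon ⟨a, ha, hap, haz⟩
  obtain ⟨s, hs, hsc, v, hvy, hv, hvs, -⟩ := h.primary hy
  have hvN : v ∈ N := Subgroup.zpowers_le.2 hyN hvy
  have hvM : v ∉ M := fun e => hv.2 (hM v e hv.1)
  have hsp : s ≠ p := (Nat.coprime_primes hs hp).1 hsc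
  by_cases hab : ⁅N, N⁆ ≤ M
  · refine h.abelian_false hp hr hrp hrm hone hMN hM hMZ hs hsp ?_
    have hmk : ∀ a ∈ N, ∀ b ∈ N,
        Commute (QuotientGroup.mk' M a) (QuotientGroup.mk' M b) := fun a ha b hb => by
      refine commutatorElement_eq_one_iff_mul_comm.1 ?_
      rw [← map_commutatorElement]
      exact (QuotientGroup.eq_one_iff _).2 (hab (Subgroup.commutator_mem_commutator ha hb))
    let D : Subgroup G :=
      { carrier := {a | a ∈ N ∧ ∃ k, a ^ s ^ k ∈ M}
        one_mem' := ⟨one_mem _, 0, by rw [one_pow]; exact one_mem _⟩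
        mul_mem' := by
          rintro a b ⟨ha, i, hi⟩ ⟨hb, j, hj⟩
          refine ⟨mul_mem ha hb, i + j, ?_⟩
          rw [← QuotientGroup.eq_one_iff]
          change QuotientGroup.mk' M ((a * b) ^ s ^ (i + j)) = 1
          rw [map_pow, map_mul, (hmk a ha b hb).mul_pow, ← map_pow, ← map_pow, ← map_mul]
          refine (QuotientGroup.eq_one_iff _).2 (mul_mem ?_ ?_)
          · rw [pow_add, pow_mul]; exact pow_mem hi _
          · rw [pow_add, mul_comm, pow_mul]; exact pow_mem hj _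
        inv_mem' := by
          rintro a ⟨ha, i, hi⟩
          exact ⟨inv_mem ha, i, by rw [inv_pow]; exact inv_mem hi⟩ }
    have hDn : D.Normal := ⟨fun a ⟨ha, i, hi⟩ g =>
      ⟨hNn.conj_mem a ha g, i, by rw [conj_pow]; exact hMn.conj_mem _ hi g⟩⟩
    have hvD : v ∈ D := by
      obtain ⟨k, hk⟩ := hvs
      exact ⟨hvN, k, hk ▸ one_mem _⟩
    rcases hmin D hDn (fun a ha => ⟨hMN.le ha, 0, by rwa [pow_zero, pow_one]⟩) (fun a ha => ha.1)
      with e | e
    · exact absurd (e ▸ hvD) hvM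
    · exact fun a ha => (e ▸ ha : a ∈ D).2
  · obtain ⟨T₀⟩ : Nonempty (Sylow r N) := inferInstance
    have hTc : Nat.card ((T₀ : Subgroup N).map N.subtype) = r ^ (Nat.card N).factorization r := by
      rw [Subgroup.card_map_of_injective N.subtype_injective]
      exact T₀.card_eq_multiplicity
    have hTN : (T₀ : Subgroup N).map N.subtype ≤ N := Subgroup.map_subtype_le _
    by_cases hTz : (T₀ : Subgroup N).map N.subtype ≤ Subgroup.center G
    · exact h.nonabelian_false hp hr hone hMN hmin hMZ hab hTN hTc hvN hvM hv fun a ha => by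
        rw [commutatorElement_eq_one_iff_mul_comm.2 (Subgroup.mem_center_iff.1 (hTz ha) v).symm]
        exact one_mem _
    · obtain ⟨S, hS⟩ := (T₀.isPGroup'.map N.subtype).exists_le_sylow
      obtain ⟨x, hxT, hx⟩ := exists_good hrc S (T := (S : Subgroup G) ⊓ N) inf_le_left
        (fun g hg t ht => Subgroup.mem_inf.2
          ⟨mul_mem (mul_mem hg (Subgroup.mem_inf.1 ht).1) (inv_mem hg), hNn.conj_mem t ht.2 g⟩)
        (fun hle => hTz ((le_inf hS hTN).trans hle))
      exact h.nonabelian_false hp hr hone hMN hmin hMZ hab hTN hTc hxT.2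
        (fun e => hx.reg.2 (hM x e hx.reg.1)) hx.reg fun a ha => hx.comm a (hS ha)

end CfsgLib.TwoRegular
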