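import Cfsg.Agent.TwoRegular.Local
import Mathlib.FieldTheory.Finite.Basic

/-!
Two different primes other than `p` cannot both divide the class size.
-/

set_option autoImplicit false

open scoped commutatorElement

namespace CfsgLib.TwoRegular

variable {G : Type*} [Group G]

/-- The projection to `G/Z(G)`. -/
abbrev bq (G : Type*) [Group G] : G →* G ⧸ Subgroup.center G := QuotientGroup.mk' (Subgroup.center G)

theorem bq_eq_one {a : G} : bq G a = 1 ↔ a ∈ Subgroup.center G := QuotientGroup.eq_one_iff a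

theorem bq_commute {a b : G} : Commute (bq G a) (bq G b) ↔ ⁅a, b⁆ ∈ Subgroup.center G := by
  rw [← bq_eq_one, map_commutatorElement, commutatorElement_eq_one_iff_mul_comm]
  exact Iff.rfl

theorem centralizer_inv (x : G) :
    Subgroup.centralizer ({x⁻¹} : Set G) = Subgroup.centralizer {x} := by
  ext g
  rw [Subgroup.mem_centralizer_singleton_iff, Subgroup.mem_centralizer_singleton_iff]
  exact Commute.inv_right_iff (a := g) (b := x)

variable [Finite G] {p m r : ℕ} [Fact r.Prime]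

/-- Every centralizer has a good element for a suitable Sylow subgroup. -/
theorem Hyp.exists_frame (h : Hyp p m G) (hrp : r.Coprime p) (hrm : r ∣ m) {u : G} (hu : Reg p u) :
    ∃ (R : Sylow r G) (x : G), Good p r R x ∧
      Subgroup.centralizer ({x} : Set G) = Subgroup.centralizer {u} := by
  have hr : r.Prime := Fact.out
  obtain ⟨R₀⟩ : Nonempty (Sylow r G) := inferInstance
  have hR₀ : ¬ (R₀ : Subgroup G) ≤ Subgroup.center G := fun hle =>
    h.not_le_center hrm hu R₀ fun a ha => Subgroup.mem_centralizer_singleton_iff.2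
      (Subgroup.mem_center_iff.1 (hle ha) u).symm
  obtain ⟨x₀, -, hx₀⟩ := exists_good hrp R₀ (T := (R₀ : Subgroup G)) le_rfl
    (fun g hg t ht => mul_mem (mul_mem hg ht) (inv_mem hg)) hR₀
  set D := part r u with hD
  have hDc : Nat.card R₀ = r * Nat.card D := by
    rw [h.card_sylow hrp hrm hx₀, h.card_part_eq hrp hx₀.reg hu]
  have hDz : ¬ D ≤ Subgroup.center G := by
    intro hle
    have hle' : D ≤ part r x₀ := fun a ha => mem_part_of (Subgroup.mem_centralizer_singleton_iff.2
      (Subgroup.mem_center_iff.1 (hle ha) x₀).symm) ((h.mem_part hrp hu).1 ha).2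
    have heq := Subgroup.eq_of_le_of_card_ge hle' (h.card_part_eq hrp hx₀.reg hu).le
    exact hx₀.reg.2 (hle (heq ▸ mem_part_of (Subgroup.mem_centralizer_singleton_iff.2 rfl) hx₀.el))
  obtain ⟨R, hR⟩ := (h.part_isPGroup hrp hu).exists_le_sylow
  have hcard : Nat.card R = r * Nat.card D := by
    rw [R.card_eq_multiplicity, ← hDc, R₀.card_eq_multiplicity]
  -- `D` is normal in `R`
  have hnorm : (R : Subgroup G) ≤ Subgroup.normalizer (D : Set G) := by
    haveI : Group.IsNilpotent (R : Subgroup G) := R.isPGroup'.isNilpotent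
    have hlt : D.subgroupOf R < ⊤ := by
      refine lt_top_iff_ne_top.2 fun htop => ?_
      have h1 : Nat.card R ≤ Nat.card D :=
        Subgroup.card_le_of_le (Subgroup.subgroupOf_eq_top.1 htop)
      rw [hcard] at h1
      have := Nat.card_pos (α := D)
      nlinarith [hr.two_le]
    obtain ⟨g, hg, hgD⟩ := SetLike.exists_of_lt
      ((Group.normalizerCondition_of_isNilpotent (G := (R : Subgroup G))) _ hlt)
    set M := (R : Subgroup G) ⊓ Subgroup.normalizer (D : Set G) with hM
    have hDM : D < M := by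
      refine lt_of_le_of_ne (le_inf hR Subgroup.le_normalizer) fun e => hgD ?_
      refine Subgroup.mem_subgroupOf.2 (e.ge ⟨g.2, Subgroup.mem_normalizer_iff.2 fun a => ⟨fun ha => ?_, fun ha => ?_⟩⟩)
      · exact ((Subgroup.mem_normalizer_iff.1 hg) ⟨a, hR ha⟩).1 ha
      · have haR : a ∈ (R : Subgroup G) := by
          have := mul_mem (mul_mem (inv_mem g.2) (hR ha)) g.2
          simpa [mul_assoc] using this
        exact ((Subgroup.mem_normalizer_iff.1 hg) ⟨a, haR⟩).2 ha
    obtain ⟨i, hi⟩ := IsPGroup.iff_card.1 (R.isPGroup'.to_le (inf_le_left : M ≤ R))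
    obtain ⟨j, hj⟩ := IsPGroup.iff_card.1 (h.part_isPGroup hrp hu)
    have hlt' : Nat.card D < Nat.card M := by
      by_contra hge
      exact hDM.ne (Subgroup.eq_of_le_of_card_ge hDM.le (not_lt.1 hge))
    have hge : Nat.card R ≤ Nat.card M := by
      rw [hcard, hj, hi, ← pow_succ']
      rw [hj, hi] at hlt'
      exact Nat.pow_le_pow_right hr.pos ((Nat.pow_lt_pow_iff_right hr.one_lt).1 hlt')
    exact (Subgroup.eq_of_le_of_card_ge inf_le_left hge).ge.trans inf_le_right
  obtain ⟨x, hxD, hx⟩ := exists_good hrp R hR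
    (fun g hg t ht => ((Subgroup.mem_normalizer_iff.1 (hnorm hg)) t).1 ht) hDz
  exact ⟨R, x, hx, h.eq_of_mem hx.reg hu (part_le r u hxD)⟩

/-- The data of a good element and an element of its Sylow group outside the centralizer. -/
theorem Hyp.exists_outside (h : Hyp p m G) (hrp : r.Coprime p) (hrm : r ∣ m) {R : Sylow r G} {x : G}
    (hx : Good p r R x) :
    ∃ g ∈ (R : Subgroup G), g ∉ Subgroup.centralizer ({x} : Set G) ∧ Reg p g ∧ IsEl r g := by
  obtain ⟨g, hg, hgC⟩ := SetLike.not_le_iff_exists.1 (h.not_le_center hrm hx.reg R)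
  have hgel := IsEl.of_mem_pGroup R.isPGroup' hg
  exact ⟨g, hg, hgC, ⟨hgel.coprime hrp, fun hz => hgC (Subgroup.mem_centralizer_singleton_iff.2
    (Subgroup.mem_center_iff.1 hz x).symm)⟩, hgel⟩

/-- Elements of the Sylow group outside `C(x)` have order `r` modulo the centre. -/
theorem Hyp.pow_mem_of_outside (h : Hyp p m G) (hrp : r.Coprime p) {R : Sylow r G} {x g : G}
    (hx : Good p r R x) (hg : g ∈ (R : Subgroup G))
    (hgC : g ∉ Subgroup.centralizer ({x} : Set G)) : g ^ r ∈ Subgroup.center G := by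
  have h1 : Commute (g ^ r) x := by
    refine commutatorElement_eq_one_iff_mul_comm.1 ?_
    rw [CfsgLib.PGroup.commutatorElement_pow_left (commute_comm (hx.comm g hg) g),
      ← CfsgLib.PGroup.commutatorElement_pow_right (commute_comm (hx.comm g hg) x),
      commutatorElement_eq_one_iff_mul_comm]
    exact Subgroup.mem_center_iff.1 hx.pow g
  by_contra hz
  refine hgC ?_
  rw [← h.same ⟨((IsEl.of_mem_pGroup R.isPGroup' hg).pow r).coprime hrp, hz⟩ hx.reg h1,
    Subgroup.mem_centralizer_singleton_iff]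
  exact (Commute.self_pow g r).eq

/-- `part r u` meets the centralizer of `v` modulo the centre in the powers of `u`. -/
theorem Hyp.cyclic_meet (h : Hyp p m G) (hrp : r.Coprime p) (hrm : r ∣ m) {u v w : G}
    (hu : Reg p u) (hul : IsEl r u) (hur : u ^ r ∈ Subgroup.center G) (hv : Reg p v)
    (huv : ⁅u, v⁆ ∈ Subgroup.center G) (hvu : v ∉ Subgroup.centralizer ({u} : Set G))
    (hw : w ∈ part r u) (hwv : ⁅w, v⁆ ∈ Subgroup.center G) : ∃ i : ℕ, bq G w = bq G u ^ i := by
  have hr : r.Prime := Fact.out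
  let W : Subgroup G := part r u ⊓ (Subgroup.centralizer ({bq G v} : Set (G ⧸ Subgroup.center G))).comap (bq G)
  have hWmem : ∀ {a}, a ∈ W ↔ a ∈ part r u ∧ ⁅a, v⁆ ∈ Subgroup.center G := fun {a} => by
    rw [Subgroup.mem_inf, Subgroup.mem_comap, Subgroup.mem_centralizer_singleton_iff, ← bq_commute]
    exact Iff.rfl
  set P := part r v with hP
  have hWP : W ≤ Subgroup.normalizer (P : Set G) := fun a ha => by
    rw [Subgroup.mem_normalizer_iff]
    refine fun b => ⟨fun hb => conj_mem_part (centralizer_conj_eq (hWmem.1 ha).2) hb, fun hb => ?_⟩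
    have h2 : ⁅a⁻¹, v⁆ ∈ Subgroup.center G := (hWmem.1 (inv_mem ha)).2
    have := conj_mem_part (centralizer_conj_eq h2) hb
    simpa [mul_assoc] using this
  have hK : IsPGroup r (W ⊔ P : Subgroup G) :=
    ((h.part_isPGroup hrp hu).to_le inf_le_left).to_sup_of_normal_right' (h.part_isPGroup hrp hv) hWP
  obtain ⟨R, hR⟩ := hK.exists_le_sylow
  obtain ⟨R', x', hx', hx'v⟩ := h.exists_frame hrp hrm hv
  have hRc : Nat.card R = r * Nat.card P := by
    rw [R.card_eq_multiplicity, ← R'.card_eq_multiplicity, h.card_sylow hrp hrm hx',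
      h.card_part_eq hrp hx'.reg hv]
  set L := P.subgroupOf W with hL
  have hLz : ∀ a : W, a ∈ L → (a : G) ∈ Subgroup.center G := by
    intro a ha
    by_contra hz
    have h1 := (h.mem_part hrp hu).1 (hWmem.1 a.2).1
    have hareg : Reg p (a : G) := ⟨h1.2.coprime hrp, hz⟩
    refine hvu ?_
    rw [← h.eq_of_mem hareg hu h1.1, h.eq_of_mem hareg hv (part_le r v (Subgroup.mem_subgroupOf.1 ha))]
    exact Subgroup.mem_centralizer_singleton_iff.2 rfl
  have hidx : Nat.card (W ⧸ L) ≤ r := by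
    let f : (W ⧸ L) × P → R := fun q => ⟨(q.1.out : G) * q.2,
      mul_mem (hR (le_sup_left (b := P) q.1.out.2)) (hR (le_sup_right (a := W) q.2.2))⟩
    have hf : Function.Injective f := by
      rintro ⟨q, b⟩ ⟨q', b'⟩ he
      have he' : (q.out : G) * b = q'.out * b' := congrArg Subtype.val he
      have hqq : q = q' := by
        rw [← QuotientGroup.out_eq' q, ← QuotientGroup.out_eq' q', QuotientGroup.eq,
          Subgroup.mem_subgroupOf]
        have : ((q.out⁻¹ * q'.out : W) : G) = (b : G) * (b' : G)⁻¹ := by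
          rw [Subgroup.coe_mul, Subgroup.coe_inv, inv_mul_eq_iff_eq_mul, ← mul_assoc, he',
            mul_inv_cancel_right]
        rw [this]
        exact mul_mem b.2 (inv_mem b'.2)
      subst hqq
      exact Prod.ext rfl (Subtype.ext (mul_left_cancel he'))
    have := Nat.card_le_card_of_injective f hf
    rw [Nat.card_prod] at this
    exact Nat.le_of_mul_le_mul_right (this.trans hRc.le) Nat.card_pos
  have huW : u ∈ W := hWmem.2 ⟨mem_part_of (Subgroup.mem_centralizer_singleton_iff.2 rfl) hul, huv⟩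
  have hord : orderOf (bq G u) = r :=
    orderOf_eq_prime (by rw [← map_pow, bq_eq_one]; exact hur) fun e => hu.2 (bq_eq_one.1 e)
  let f : Fin r → W ⧸ L := fun i => ((⟨u, huW⟩ : W) ^ (i : ℕ) : W)
  have hf : Function.Injective f := by
    intro i j he
    have h1 := hLz _ (QuotientGroup.eq.1 he)
    rw [← bq_eq_one, Subgroup.coe_mul, Subgroup.coe_inv, Subgroup.coe_pow, Subgroup.coe_pow,
      map_mul, map_inv, map_pow, map_pow, inv_mul_eq_one] at h1
    exact Fin.ext (pow_injOn_Iio_orderOf (by rw [hord]; exact i.2) (by rw [hord]; exact j.2) h1)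
  have hsurj : Function.Surjective f := by
    refine ((Nat.bijective_iff_injective_and_card f).2 ⟨hf, le_antisymm (Nat.card_le_card_of_injective f hf) ?_⟩).2
    rw [Nat.card_fin]
    exact hidx
  obtain ⟨i, hi⟩ := hsurj ((⟨w, hWmem.2 ⟨hw, hwv⟩⟩ : W) : W ⧸ L)
  refine ⟨i, ?_⟩
  have h1 := hLz _ (QuotientGroup.eq.1 hi)
  rw [← bq_eq_one, Subgroup.coe_mul, Subgroup.coe_inv, Subgroup.coe_pow, map_mul, map_inv, map_pow,
    inv_mul_eq_one] at h1
  exact h1.symm

/-- If `part r u` is more than `⟨u⟩` modulo the centre it induces transvections on `⟨u, v⟩`. -/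
theorem Hyp.transvection (h : Hyp p m G) (hrp : r.Coprime p) (hrm : r ∣ m) {u v : G}
    (hu : Reg p u) (hul : IsEl r u) (hur : u ^ r ∈ Subgroup.center G) (hv : Reg p v)
    (hvl : IsEl r v) (huv : ⁅u, v⁆ ∈ Subgroup.center G)
    (hvu : v ∉ Subgroup.centralizer ({u} : Set G))
    (hbig : ∃ t ∈ part r u, ∀ i : ℕ, bq G t ≠ bq G u ^ i) (j : ℕ) :
    ∃ e : G, Commute (bq G e) (bq G u) ∧ bq G e * bq G v * (bq G e)⁻¹ = bq G u ^ j * bq G v := by
  have hr : r.Prime := Fact.out
  set T := part r u with hT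
  have hvn : ∀ a ∈ T, v * a * v⁻¹ ∈ T := fun a ha =>
    conj_mem_part (centralizer_conj_eq (comm_mem_center_symm huv)) ha
  have hvn' : ∀ a ∈ T, v⁻¹ * a * v ∈ T := fun a ha => by
    have hz : ⁅v⁻¹, u⁆ ∈ Subgroup.center G := by
      rw [← bq_commute, map_inv]
      exact (bq_commute.2 huv).symm.inv_left
    simpa using conj_mem_part (centralizer_conj_eq hz) ha
  have hvT : Subgroup.zpowers v ≤ Subgroup.normalizer (T : Set G) := by
    refine Subgroup.zpowers_le.2 (Subgroup.mem_normalizer_iff.2 fun a => ⟨hvn a, fun ha => ?_⟩)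
    simpa [mul_assoc] using hvn' _ ha
  have hvP : IsPGroup r (Subgroup.zpowers v) := by
    obtain ⟨k, hk⟩ := hvl
    obtain ⟨i, -, hi⟩ := (Nat.dvd_prime_pow hr).1 (orderOf_dvd_of_pow_eq_one hk)
    exact IsPGroup.of_card (n := i) (by rw [Nat.card_zpowers, hi])
  set R := Subgroup.zpowers v ⊔ T with hR
  have hRp : IsPGroup r R := hvP.to_sup_of_normal_right' (h.part_isPGroup hrp hu) hvT
  let L : Subgroup G := T ⊓ (Subgroup.centralizer ({bq G v} : Set (G ⧸ Subgroup.center G))).comap (bq G)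
  have hLmem : ∀ {a}, a ∈ L ↔ a ∈ T ∧ Commute (bq G a) (bq G v) := fun {a} => by
    rw [Subgroup.mem_inf, Subgroup.mem_comap, Subgroup.mem_centralizer_singleton_iff]
    exact Iff.rfl
  have hTn : R ≤ Subgroup.normalizer (T : Set G) := sup_le hvT Subgroup.le_normalizer
  have hLn : R ≤ Subgroup.normalizer (L : Set G) := by
    refine sup_le (Subgroup.zpowers_le.2 (Subgroup.mem_normalizer_iff.2 fun a => ?_)) fun t ht =>
      Subgroup.mem_normalizer_iff.2 fun a => ?_
    · constructor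
      · intro ha
        obtain ⟨haT, hac⟩ := hLmem.1 ha
        refine hLmem.2 ⟨hvn a haT, ?_⟩
        rw [map_mul, map_mul, map_inv]
        exact ((Commute.refl _).mul_left hac).mul_left (Commute.refl _).inv_left
      · intro ha
        obtain ⟨haT, hac⟩ := hLmem.1 ha
        refine hLmem.2 ⟨by simpa [mul_assoc] using hvn' _ haT, ?_⟩
        have h2 := ((Commute.refl (bq G v)).inv_left.mul_left hac).mul_left (Commute.refl (bq G v))
        simpa [mul_assoc] using h2
    · constructor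
      · intro ha
        rwa [(h.part_comm hrp hu ht (hLmem.1 ha).1).eq, mul_inv_cancel_right]
      · intro ha
        have haT : t * a * t⁻¹ ∈ T := (hLmem.1 ha).1
        have : t * a * t⁻¹ = a := by
          have hc := (h.part_comm hrp hu (inv_mem ht) haT).eq
          have : t⁻¹ * (t * a * t⁻¹) = a * t⁻¹ := by group
          rw [this] at hc
          exact (mul_right_cancel hc).symm
        rwa [this] at ha
  have hnle : ¬ T ≤ L := fun hle => by
    obtain ⟨t, ht, htne⟩ := hbig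
    obtain ⟨i, hi⟩ := h.cyclic_meet hrp hrm hu hul hur hv huv hvu ht (bq_commute.1 (hLmem.1 (hle ht)).2)
    exact htne i hi
  obtain ⟨t, ht, htL, htc⟩ := exists_central_mod hRp (le_sup_right : T ≤ R)
    (fun g hg a ha => ((Subgroup.mem_normalizer_iff.1 (hTn hg)) a).1 ha)
    (fun g hg a ha => ((Subgroup.mem_normalizer_iff.1 (hLn hg)) a).1 ha) hnle
  have hvt := hLmem.1 (htc v (le_sup_left (b := T) (Subgroup.mem_zpowers v)))
  obtain ⟨i, hi⟩ := h.cyclic_meet hrp hrm hu hul hur hv huv hvu hvt.1 (bq_commute.1 hvt.2)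
  rw [map_commutatorElement] at hi
  set a := bq G u with ha
  set b := bq G v with hb
  set c := bq G t with hcdef
  have hca : Commute c a := (h.part_comm hrp hu ht
    (mem_part_of (Subgroup.mem_centralizer_singleton_iff.2 rfl) hul)).map (bq G)
  have hord : orderOf a = r :=
    orderOf_eq_prime (by rw [ha, ← map_pow, bq_eq_one]; exact hur) fun e => hu.2 (bq_eq_one.1 e)
  have hcb : c * b * c⁻¹ = (a ^ i)⁻¹ * b := by
    rw [← hi]
    simp only [commutatorElement_def]
    group
  have hn : ∀ n : ℕ, c ^ n * b * (c ^ n)⁻¹ = ((a ^ i)⁻¹) ^ n * b := by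
    intro n
    induction n with
    | zero => simp
    | succ n ih =>
      calc c ^ (n + 1) * b * (c ^ (n + 1))⁻¹ = c * (c ^ n * b * (c ^ n)⁻¹) * c⁻¹ := by
            rw [pow_succ']; group
        _ = (c * (((a ^ i)⁻¹) ^ n) * c⁻¹) * (c * b * c⁻¹) := by rw [ih]; group
        _ = ((a ^ i)⁻¹) ^ (n + 1) * b := by
            rw [(((hca.pow_right i).inv_right).pow_right n).eq, mul_inv_cancel_right, hcb,
              pow_succ, mul_assoc]
  have hia : a ^ i ≠ 1 := fun e => htL (hLmem.2 ⟨ht, by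
    refine Commute.symm ?_
    rw [← hi] at e
    exact commutatorElement_eq_one_iff_mul_comm.1 e⟩)
  obtain ⟨n, hn'⟩ : ∃ n : ℕ, ((a ^ i)⁻¹) ^ n = a ^ j := by
    have ho : orderOf ((a ^ i)⁻¹) = r := by
      rw [orderOf_inv]
      refine orderOf_eq_prime ?_ hia
      rw [← pow_mul, mul_comm, pow_mul, ← hord, pow_orderOf_eq_one, one_pow]
    have hz : Subgroup.zpowers ((a ^ i)⁻¹) = Subgroup.zpowers a :=
      Subgroup.eq_of_le_of_card_ge
        (Subgroup.zpowers_le.2 (inv_mem (Subgroup.npow_mem_zpowers a i)))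
        (by rw [Nat.card_zpowers, Nat.card_zpowers, ho, hord])
    exact (mem_powers_iff_mem_zpowers.2 (hz.ge (Subgroup.npow_mem_zpowers a j)))
  refine ⟨t ^ n, ?_, ?_⟩
  · rw [map_pow]; exact hca.pow_left n
  · rw [map_pow, hn, hn']

/-- Big parts on both sides give an element inverting `⟨u, v⟩`, which is absurd for odd `r`. -/
theorem Hyp.no_inversion (h : Hyp p m G) (hrp : r.Coprime p) (hrm : r ∣ m) (hr2 : r ≠ 2) {u v : G}
    (hu : Reg p u) (hul : IsEl r u) (hur : u ^ r ∈ Subgroup.center G) (hv : Reg p v)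
    (hvl : IsEl r v) (hvr : v ^ r ∈ Subgroup.center G) (huv : ⁅u, v⁆ ∈ Subgroup.center G)
    (hvu : v ∉ Subgroup.centralizer ({u} : Set G))
    (hbigu : ∃ t ∈ part r u, ∀ i : ℕ, bq G t ≠ bq G u ^ i)
    (hbigv : ∃ t ∈ part r v, ∀ i : ℕ, bq G t ≠ bq G v ^ i) : False := by
  have hr : r.Prime := Fact.out
  obtain ⟨l, hl⟩ := hr.odd_of_ne_two hr2
  have huv' : u ∉ Subgroup.centralizer ({v} : Set G) := fun e => hvu
    (Subgroup.mem_centralizer_singleton_iff.2 (Subgroup.mem_centralizer_singleton_iff.1 e).symm)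
  obtain ⟨e, hea, heb⟩ := h.transvection hrp hrm hu hul hur hv hvl huv hvu hbigu 1
  obtain ⟨d, hdb, hda⟩ := h.transvection hrp hrm hv hvl hvr hu hul (comm_mem_center_symm huv) huv'
    hbigv (r - 1)
  set a := bq G u with ha
  set b := bq G v with hb
  have hab : Commute a b := bq_commute.2 huv
  have hbr : b ^ (r - 1) = b⁻¹ := by
    refine eq_inv_of_mul_eq_one_left ?_
    rw [← pow_succ, Nat.sub_add_cancel hr.pos, hb, ← map_pow, bq_eq_one]
    exact hvr
  rw [pow_one] at heb
  rw [hbr] at hda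
  set E := bq G e with hE
  set D := bq G d with hD
  have hEa : E * a * E⁻¹ = a := by rw [hea.eq, mul_inv_cancel_right]
  have hDb : D * b * D⁻¹ = b := by rw [hdb.eq, mul_inv_cancel_right]
  have hI0a : (E * D * E) * a * (E * D * E)⁻¹ = b⁻¹ := by
    calc (E * D * E) * a * (E * D * E)⁻¹ = E * (D * (E * a * E⁻¹) * D⁻¹) * E⁻¹ := by group
      _ = (E * b * E⁻¹)⁻¹ * (E * a * E⁻¹) := by
          rw [show E * (D * (E * a * E⁻¹) * D⁻¹) * E⁻¹ = E * (b⁻¹ * a) * E⁻¹ by rw [hEa, hda]]
          group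
      _ = b⁻¹ := by rw [heb, hEa, mul_inv_rev, inv_mul_cancel_right]
  have hI0b : (E * D * E) * b * (E * D * E)⁻¹ = a := by
    calc (E * D * E) * b * (E * D * E)⁻¹ = E * (D * (E * b * E⁻¹) * D⁻¹) * E⁻¹ := by group
      _ = E * ((D * a * D⁻¹) * (D * b * D⁻¹)) * E⁻¹ := by rw [heb]; group
      _ = a := by rw [hda, hDb, mul_assoc b⁻¹, hab.eq, inv_mul_cancel_left, hEa]
  set s₀ := (e * d * e) ^ 2 with hs₀
  have hs₀a : bq G s₀ * a * (bq G s₀)⁻¹ = a⁻¹ := by
    rw [hs₀, map_pow, map_mul, map_mul, ← hE, ← hD, pow_two]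
    calc (E * D * E) * (E * D * E) * a * ((E * D * E) * (E * D * E))⁻¹
        = (E * D * E) * ((E * D * E) * a * (E * D * E)⁻¹) * (E * D * E)⁻¹ := by group
      _ = ((E * D * E) * b * (E * D * E)⁻¹)⁻¹ := by rw [hI0a]; group
      _ = a⁻¹ := by rw [hI0b]
  have hs₀b : bq G s₀ * b * (bq G s₀)⁻¹ = b⁻¹ := by
    rw [hs₀, map_pow, map_mul, map_mul, ← hE, ← hD, pow_two]
    calc (E * D * E) * (E * D * E) * b * ((E * D * E) * (E * D * E))⁻¹
        = (E * D * E) * ((E * D * E) * b * (E * D * E)⁻¹) * (E * D * E)⁻¹ := by group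
      _ = b⁻¹ := by rw [hI0b, hI0a]
  -- the 2-part
  have hodd : ∀ (S c : G ⧸ Subgroup.center G) (k : ℕ), S * c * S⁻¹ = c⁻¹ →
      S ^ (2 * k + 1) * c * (S ^ (2 * k + 1))⁻¹ = c⁻¹ := by
    intro S c k hSc
    induction k with
    | zero => simpa using hSc
    | succ k ih =>
      calc S ^ (2 * (k + 1) + 1) * c * (S ^ (2 * (k + 1) + 1))⁻¹
          = S * (S * (S ^ (2 * k + 1) * c * (S ^ (2 * k + 1))⁻¹) * S⁻¹) * S⁻¹ := by
            rw [show 2 * (k + 1) + 1 = (2 * k + 1) + 1 + 1 by ring, pow_succ', pow_succ']; group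
        _ = c⁻¹ := by
            rw [ih, show S * c⁻¹ * S⁻¹ = (S * c * S⁻¹)⁻¹ by group, hSc, inv_inv, hSc]
  obtain ⟨k, hk⟩ : Odd (ordCompl[2] (orderOf s₀)) :=
    Nat.odd_iff.2 (Nat.two_dvd_ne_zero.1 (Nat.not_dvd_ordCompl Nat.prime_two (orderOf_pos s₀).ne'))
  set s := s₀ ^ (2 * k + 1) with hs
  have hsa : bq G s * a * (bq G s)⁻¹ = a⁻¹ := by rw [hs, map_pow]; exact hodd _ _ k hs₀a
  have hsb : bq G s * b * (bq G s)⁻¹ = b⁻¹ := by rw [hs, map_pow]; exact hodd _ _ k hs₀b
  have hsel : IsEl 2 s := ⟨(orderOf s₀).factorization 2, by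
    rw [hs, ← hk, ← pow_mul, mul_comm, Nat.ordProj_mul_ordCompl_eq_self, pow_orderOf_eq_one]⟩
  have har : a ^ r = 1 := by rw [ha, ← map_pow, bq_eq_one]; exact hur
  have hane : a ≠ 1 := fun e' => hu.2 (bq_eq_one.1 e')
  have hsC : s ∉ Subgroup.centralizer ({u} : Set G) := fun e' => hane (by
    have hc' : Commute s u := Subgroup.mem_centralizer_singleton_iff.1 e'
    have hc : Commute (bq G s) a := hc'.map (bq G)
    rw [hc.eq, mul_inv_cancel_right] at hsa
    have h2 : a ^ 2 = 1 := by rw [pow_two]; nth_rewrite 2 [hsa]; exact mul_inv_cancel a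
    rw [hl, pow_add, pow_mul, h2, one_pow, one_mul, pow_one] at har
    exact har)
  have hs2 : Commute (s ^ 2) u := by
    refine commute_of_comm_mem_center (hsel.pow 2) hul ((Nat.coprime_primes Nat.prime_two hr).2 (Ne.symm hr2)) ?_
    rw [← bq_commute, map_pow, pow_two]
    refine (mul_inv_eq_iff_eq_mul.1 ?_)
    calc bq G s * bq G s * a * (bq G s * bq G s)⁻¹
        = bq G s * (bq G s * a * (bq G s)⁻¹) * (bq G s)⁻¹ := by group
      _ = (bq G s * a * (bq G s)⁻¹)⁻¹ := by conv_lhs => rw [hsa]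
                                            group
      _ = a := by rw [hsa, inv_inv]
  obtain ⟨q, hq, hqr, y, hy, hyq, hyu⟩ := h.exists_other hr hu hul
  have hqp : q.Coprime p := IsEl.coprime_of_reg hq hy hyq
  have hyA : y ∈ part q u :=
    mem_part_of (hyu ▸ Subgroup.mem_centralizer_singleton_iff.2 rfl) hyq
  have hsnor : Subgroup.centralizer ({s * u * s⁻¹} : Set G) = Subgroup.centralizer {u} := by
    have hz : u * (s * u * s⁻¹) ∈ Subgroup.center G := by
      rw [← bq_eq_one, map_mul, map_mul, map_mul, map_inv, ← ha, hsa, mul_inv_cancel]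
    have : s * u * s⁻¹ = u⁻¹ * (u * (s * u * s⁻¹)) := by group
    rw [this, centralizer_mul_central hz, centralizer_inv]
  have hinv : ∀ c ∈ part q u, bq G s * bq G c * (bq G s)⁻¹ = (bq G c)⁻¹ := by
    intro c hc
    have hc' : s * c * s⁻¹ ∈ part q u := conj_mem_part hsnor hc
    have hs2c : Commute (s ^ 2) c :=
      (h.commute_of_mem hu (part_le q u hc) (Subgroup.mem_centralizer_singleton_iff.2 hs2.eq)
        ((((h.mem_part hqp hu).1 hc).2).coprime hqp)).symm
    have hfix : Commute s (c * (s * c * s⁻¹)) := by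
      refine mul_inv_eq_iff_eq_mul.1 ?_
      calc s * (c * (s * c * s⁻¹)) * s⁻¹ = (s * c * s⁻¹) * (s ^ 2 * c * (s ^ 2)⁻¹) := by
            rw [pow_two]; group
        _ = (s * c * s⁻¹) * c := by rw [hs2c.eq, mul_inv_cancel_right]
        _ = c * (s * c * s⁻¹) := (h.part_comm hqp hu hc hc').eq.symm
    have hz := h.mem_center_of_fixed hqp hu (mul_mem hc hc') hsC hfix
    rw [← bq_eq_one, map_mul, map_mul, map_mul, map_inv] at hz
    exact eq_inv_of_mul_eq_one_right hz
  have hvy : v * y * v⁻¹ ∈ part q u :=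
    conj_mem_part (centralizer_conj_eq (comm_mem_center_symm huv)) hyA
  set Y := bq G y with hY
  have h1 := hinv _ hvy
  have h2 := hinv y hyA
  rw [map_mul, map_mul, map_inv, ← hY, ← hb] at h1
  have h3 : b⁻¹ * Y⁻¹ * b = b * Y⁻¹ * b⁻¹ := by
    calc b⁻¹ * Y⁻¹ * b = (bq G s * b * (bq G s)⁻¹) * (bq G s * Y * (bq G s)⁻¹) *
          (bq G s * b * (bq G s)⁻¹)⁻¹ := by rw [hsb, h2, inv_inv]
      _ = bq G s * (b * Y * b⁻¹) * (bq G s)⁻¹ := by group
      _ = (b * Y * b⁻¹)⁻¹ := h1
      _ = b * Y⁻¹ * b⁻¹ := by group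
  have h4 : Commute (b ^ 2) Y⁻¹ := by
    refine mul_inv_eq_iff_eq_mul.1 ?_
    calc b ^ 2 * Y⁻¹ * (b ^ 2)⁻¹ = b * (b * Y⁻¹ * b⁻¹) * b⁻¹ := by rw [pow_two]; group
      _ = Y⁻¹ := by rw [← h3]; group
  have h5 : ⁅v ^ 2, y⁆ ∈ Subgroup.center G := by
    rw [← bq_commute, map_pow]
    exact Commute.inv_right_iff.1 h4
  have h6 := commute_of_comm_mem_center (hvl.pow 2) hyq
    ((Nat.coprime_primes hr hq).2 (Ne.symm hqr)) h5
  have hv2 : v ^ 2 ∈ Subgroup.centralizer ({u} : Set G) :=
    hyu ▸ Subgroup.mem_centralizer_singleton_iff.2 h6.eq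
  have hvr' : v ^ r ∈ Subgroup.centralizer ({u} : Set G) :=
    Subgroup.mem_centralizer_singleton_iff.2 (Subgroup.mem_center_iff.1 hvr u).symm
  refine hvu ?_
  have hveq : v = (v ^ 2) ^ (l + 1) * (v ^ r)⁻¹ := by
    rw [hl, ← pow_mul, eq_mul_inv_iff_mul_eq, ← pow_succ', show 2 * l + 1 + 1 = 2 * (l + 1) by ring]
  rw [hveq]
  exact mul_mem (pow_mem hv2 _) (inv_mem hvr')

omit [Fact r.Prime] in
/-- **Only one prime other than `p` divides the class size.** -/
theorem Hyp.two_primes_false (h : Hyp p m G) {q : ℕ} (hr : r.Prime) (hq : q.Prime) (hlt : q < r)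
    (hrp : r.Coprime p) (hqp : q.Coprime p) (hrm : r ∣ m) (hqm : q ∣ m) {u₀ : G} (hu₀ : Reg p u₀) :
    False := by
  haveI : Fact r.Prime := ⟨hr⟩
  haveI : Fact q.Prime := ⟨hq⟩
  obtain ⟨Q, x, hx, -⟩ := h.exists_frame (r := q) hqp hqm hu₀
  obtain ⟨v, hvQ, hvC, hv, hvl⟩ := h.exists_outside hqp hqm hx
  have hvr := h.pow_mem_of_outside hqp hx hvQ hvC
  have hxv : ⁅x, v⁆ ∈ Subgroup.center G := comm_mem_center_symm (hx.comm v hvQ)
  have hcop : r.Coprime q := (Nat.coprime_primes hr hq).2 hlt.ne'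
  -- for each centralizer an `r`-element normalising its `q`-part
  have hgq : ∀ {w : G}, Reg p w → IsEl q w → ∃ g : G, IsEl r g ∧ g ^ r ∈ Subgroup.center G ∧
      g * w * g⁻¹ ∈ part q w ∧ ¬ Commute g w := by
    intro w hw hwl
    obtain ⟨R, z, hz, hzw⟩ := h.exists_frame (r := r) hrp hrm hw
    obtain ⟨g, hgR, hgC, -, hgl⟩ := h.exists_outside hrp hrm hz
    refine ⟨g, hgl, h.pow_mem_of_outside hrp hz hgR hgC, ?_, fun hc => hgC ?_⟩
    · have hwz : w ∈ part q z :=
        mem_part_of (hzw ▸ Subgroup.mem_centralizer_singleton_iff.2 rfl) hwl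
      have hpq : part q z = part q w := by unfold part; rw [hzw]
      rw [← hpq]
      exact conj_mem_part (centralizer_conj_eq (hz.comm g hgR)) hwz
    · rw [hzw]
      exact Subgroup.mem_centralizer_singleton_iff.2 hc.eq
  by_cases hq2 : q = 2
  · subst hq2
    obtain ⟨g, hgl, -, hgx, hgc⟩ := hgq hx.reg hx.el
    set w := g * x * g⁻¹ with hw
    have hwQ : w ∈ (Q : Subgroup G) := ((h.good_part hqp hx).le hgx).1
    have hwv : v * w ∉ Subgroup.centralizer ({x} : Set G) := fun e => hvC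
      ((Subgroup.mul_mem_cancel_right _ (part_le 2 x hgx)).1 e)
    have h1 := h.pow_mem_of_outside hqp hx (mul_mem hvQ hwQ) hwv
    have hw2 : w ^ 2 ∈ Subgroup.center G := by
      rw [hw, conj_pow]; exact conj_mem_center hx.pow
    rw [← bq_eq_one, map_pow] at h1
    have hw2' : bq G w ^ 2 = 1 := by rw [← map_pow, bq_eq_one]; exact hw2
    have hv2' : bq G v ^ 2 = 1 := by rw [← map_pow, bq_eq_one]; exact hvr
    have hcomm : Commute (bq G w) (bq G v) := by
      rw [map_mul, pow_two] at h1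
      calc bq G w * bq G v = bq G v ^ 2 * (bq G w * bq G v) * bq G w ^ 2 := by
            rw [hv2', hw2', one_mul, mul_one]
        _ = bq G v * ((bq G v * bq G w) * (bq G v * bq G w)) * bq G w := by
            rw [pow_two, pow_two]; group
        _ = bq G v * bq G w := by rw [h1, mul_one]
    obtain ⟨i, hi⟩ := h.cyclic_meet hqp hqm hx.reg hx.el hx.pow hv hxv hvC hgx
      (bq_commute.1 hcomm)
    have hax : bq G x ^ 2 = 1 := by rw [← map_pow, bq_eq_one]; exact hx.pow
    have hwx : bq G w = bq G x := by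
      rcases Nat.even_or_odd i with ⟨j, hj⟩ | ⟨j, hj⟩
      · exfalso
        rw [hj, ← two_mul, pow_mul, hax, one_pow, bq_eq_one] at hi
        exact (hx.reg.conj g).2 hi
      · rw [hi, hj, pow_succ, pow_mul, hax, one_pow, one_mul]
    refine hgc (commute_of_comm_mem_center hgl hx.el hcop ?_)
    rw [← bq_commute]
    rw [hw, map_mul, map_mul, map_inv] at hwx
    exact mul_inv_eq_iff_eq_mul.1 hwx
  · -- a part of order `q` modulo the centre
    have small : ∀ {w : G}, Reg p w → IsEl q w → w ^ q ∈ Subgroup.center G →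
        ∃ t ∈ part q w, ∀ i : ℕ, bq G t ≠ bq G w ^ i := by
      intro w hw hwl hwq
      by_contra hcon
      push Not at hcon
      obtain ⟨g, hgl, hgr, hgw, hgc⟩ := hgq hw hwl
      obtain ⟨i, hi⟩ := hcon _ hgw
      rw [map_mul, map_mul, map_inv] at hi
      set a := bq G w with ha
      set c := bq G g with hc
      have hiter : ∀ n : ℕ, c ^ n * a * (c ^ n)⁻¹ = a ^ i ^ n := by
        intro n
        induction n with
        | zero => simp
        | succ n ih =>
          calc c ^ (n + 1) * a * (c ^ (n + 1))⁻¹ = c * (c ^ n * a * (c ^ n)⁻¹) * c⁻¹ := by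
                rw [pow_succ']; group
            _ = (c * a * c⁻¹) ^ (i ^ n) := by rw [ih, conj_pow]
            _ = a ^ i ^ (n + 1) := by rw [hi, ← pow_mul, pow_succ']
      have hord : orderOf a = q :=
        orderOf_eq_prime (by rw [ha, ← map_pow, bq_eq_one]; exact hwq) fun e => hw.2 (bq_eq_one.1 e)
      have hcr : c ^ r = 1 := by rw [hc, ← map_pow, bq_eq_one]; exact hgr
      have h1 : a ^ i ^ r = a := by rw [← hiter, hcr]; group
      have h2 : ((i : ZMod q)) ^ r = 1 := by
        have : i ^ r ≡ 1 [MOD q] := hord ▸ pow_eq_pow_iff_modEq.1 (by rw [h1, pow_one])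
        have h' := (ZMod.natCast_eq_natCast_iff _ _ _).2 this
        simpa using h'
      have hi0 : (i : ZMod q) ≠ 0 := fun e => by
        rw [e, zero_pow hr.ne_zero] at h2
        exact zero_ne_one h2
      have h4 : orderOf (i : ZMod q) = 1 := by
        refine Nat.eq_one_of_dvd_coprimes ?_ (orderOf_dvd_of_pow_eq_one h2)
          (orderOf_dvd_of_pow_eq_one (ZMod.pow_card_sub_one_eq_one hi0))
        refine hr.coprime_iff_not_dvd.2 fun hd => ?_
        have := Nat.le_of_dvd (by have := hq.two_le; omega) hd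
        omega
      refine hgc (commute_of_comm_mem_center hgl hwl hcop ?_)
      rw [← bq_commute]
      have hi1 : i ≡ 1 [MOD q] := by
        rw [← ZMod.natCast_eq_natCast_iff, Nat.cast_one]
        exact orderOf_eq_one_iff.1 h4
      have : a ^ i = a := by
        have := pow_eq_pow_iff_modEq.2 (hord.symm ▸ hi1 : i ≡ 1 [MOD orderOf a])
        rwa [pow_one] at this
      rw [this] at hi
      exact mul_inv_eq_iff_eq_mul.1 hi
    exact h.no_inversion hqp hqm hq2 hx.reg hx.el hx.pow hv hvl hvr hxv hvC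
      (small hx.reg hx.el hx.pow) (small hv hvl hvr)

end CfsgLib.TwoRegular
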